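import Mathlib.AlgebraicGeometry.AffineTransitionLimit
import Mathlib.CategoryTheory.Limits.Shapes.Pullback.Connected
import Mathlib.AlgebraicGeometry.Morphisms.QuasiSeparated
import Mathlib.AlgebraicGeometry.Morphisms.Affine

/-!
Base change of an object / morphism over a stage `D.obj i₀` of a cofiltered limit of schemes
with affine transition maps to the tower over `Over i₀`.
-/

universe u
open CategoryTheory CategoryTheory.Limits AlgebraicGeometry

namespace Groth.Agent.LimDesc

variable {I : Type u} [SmallCategory I] (D : I ⥤ Scheme.{u}) {i₀ : I}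
variable {Y₀ : Scheme.{u}} (g₀ : Y₀ ⟶ D.obj i₀)

/-- stage `j` of the base change of `Y₀` -/
noncomputable abbrev stage (j : Over i₀) : Scheme.{u} := pullback g₀ (D.map j.hom)

/-- projection to `Y₀` -/
noncomputable abbrev toBase (j : Over i₀) : stage D g₀ j ⟶ Y₀ := pullback.fst _ _

/-- projection to the stage -/
noncomputable abbrev toStage (j : Over i₀) : stage D g₀ j ⟶ D.obj j.left := pullback.snd _ _

theorem isPullback_stage (j : Over i₀) :
    IsPullback (toBase D g₀ j) (toStage D g₀ j) g₀ (D.map j.hom) := .of_hasPullback _ _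

@[reassoc (attr := simp)] theorem lift_toBase {W : Scheme.{u}} {j : Over i₀} (a : W ⟶ Y₀)
    (b : W ⟶ D.obj j.left) (h : a ≫ g₀ = b ≫ D.map j.hom) :
    (pullback.lift a b h : W ⟶ stage D g₀ j) ≫ toBase D g₀ j = a := pullback.lift_fst _ _ _

@[reassoc (attr := simp)] theorem lift_toStage {W : Scheme.{u}} {j : Over i₀} (a : W ⟶ Y₀)
    (b : W ⟶ D.obj j.left) (h : a ≫ g₀ = b ≫ D.map j.hom) :
    (pullback.lift a b h : W ⟶ stage D g₀ j) ≫ toStage D g₀ j = b := pullback.lift_snd _ _ _

/-- transition map -/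
noncomputable def trans {j k : Over i₀} (a : j ⟶ k) : stage D g₀ j ⟶ stage D g₀ k :=
  pullback.map _ _ _ _ (𝟙 _) (D.map a.left) (𝟙 _) (by simp)
    (by rw [Category.comp_id, ← D.map_comp, Over.w a])

@[reassoc (attr := simp)] theorem trans_toBase {j k : Over i₀} (a : j ⟶ k) :
    trans D g₀ a ≫ toBase D g₀ k = toBase D g₀ j :=
  (pullback.lift_fst _ _ _).trans (Category.comp_id _)

@[reassoc (attr := simp)] theorem trans_toStage {j k : Over i₀} (a : j ⟶ k) :
    trans D g₀ a ≫ toStage D g₀ k = toStage D g₀ j ≫ D.map a.left :=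
  pullback.lift_snd _ _ _

theorem isPullback_trans {j k : Over i₀} (a : j ⟶ k) :
    IsPullback (trans D g₀ a) (toStage D g₀ j) (toStage D g₀ k) (D.map a.left) := by
  refine IsPullback.of_right ?_ (trans_toStage D g₀ a) (isPullback_stage D g₀ k)
  rw [trans_toBase, ← D.map_comp, Over.w a]
  exact isPullback_stage D g₀ j

/-- the tower -/
noncomputable def tower : Over i₀ ⥤ Scheme.{u} where
  obj := stage D g₀
  map a := trans D g₀ a
  map_id j := by apply pullback.hom_ext <;> simp
  map_comp a b := by apply pullback.hom_ext <;> simp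

@[simp] theorem tower_obj (j : Over i₀) : (tower D g₀).obj j = stage D g₀ j := rfl
@[simp] theorem tower_map {j k : Over i₀} (a : j ⟶ k) : (tower D g₀).map a = trans D g₀ a := rfl

/-- the structure map of the tower -/
noncomputable def towerToBase : tower D g₀ ⟶ (Functor.const _).obj Y₀ where
  app j := toBase D g₀ j
  naturality j k a := by simp

@[simp] theorem towerToBase_app (j : Over i₀) : (towerToBase D g₀).app j = toBase D g₀ j := rfl

/-- the map to the original diagram -/
noncomputable def towerToStage : tower D g₀ ⟶ Over.forget i₀ ⋙ D where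
  app j := toStage D g₀ j
  naturality j k a := trans_toStage D g₀ a

theorem isAffineHom_toBase [∀ {i j} (f : i ⟶ j), IsAffineHom (D.map f)] (j : Over i₀) :
    IsAffineHom (toBase D g₀ j) :=
  MorphismProperty.pullback_fst _ _ inferInstance

theorem isAffineHom_tower_map [∀ {i j} (f : i ⟶ j), IsAffineHom (D.map f)] {j k : Over i₀}
    (a : j ⟶ k) : IsAffineHom ((tower D g₀).map a) :=
  MorphismProperty.of_isPullback (P := @IsAffineHom) (isPullback_trans D g₀ a).flip inferInstance

instance [∀ {i j} (f : i ⟶ j), IsAffineHom (D.map f)] {j k : Over i₀} (a : j ⟶ k) :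
    IsAffineHom ((tower D g₀).map a) :=
  isAffineHom_tower_map D g₀ a

theorem compactSpace_stage [∀ {i j} (f : i ⟶ j), IsAffineHom (D.map f)] [CompactSpace Y₀]
    (j : Over i₀) : CompactSpace (stage D g₀ j) :=
  QuasiCompact.compactSpace_of_compactSpace (toBase D g₀ j)

theorem quasiSeparatedSpace_stage [∀ {i j} (f : i ⟶ j), IsAffineHom (D.map f)]
    [QuasiSeparatedSpace Y₀] (j : Over i₀) : QuasiSeparatedSpace (stage D g₀ j) :=
  quasiSeparatedSpace_of_quasiSeparated (toBase D g₀ j)

variable (c : Cone D) {Y : Scheme.{u}} {qY : Y ⟶ Y₀} {g : Y ⟶ c.pt}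
variable (hY : IsPullback qY g g₀ (c.π.app i₀))

include hY in
theorem lift_aux (j : Over i₀) : qY ≫ g₀ = (g ≫ c.π.app j.left) ≫ D.map j.hom := by
  rw [Category.assoc, c.w j.hom, hY.w]

/-- projection from the limit to the stage `j` -/
noncomputable def proj (j : Over i₀) : Y ⟶ stage D g₀ j :=
  pullback.lift qY (g ≫ c.π.app j.left) (lift_aux D g₀ c hY j)

@[reassoc (attr := simp)] theorem proj_toBase (j : Over i₀) :
    proj D g₀ c hY j ≫ toBase D g₀ j = qY := pullback.lift_fst _ _ _

@[reassoc (attr := simp)] theorem proj_toStage (j : Over i₀) :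
    proj D g₀ c hY j ≫ toStage D g₀ j = g ≫ c.π.app j.left := pullback.lift_snd _ _ _

theorem isPullback_proj (j : Over i₀) :
    IsPullback (proj D g₀ c hY j) g (toStage D g₀ j) (c.π.app j.left) := by
  refine IsPullback.of_right ?_ (proj_toStage D g₀ c hY j) (isPullback_stage D g₀ j)
  rw [proj_toBase, c.w j.hom]
  exact hY

/-- the limit cone -/
noncomputable def towerCone : Cone (tower D g₀) where
  pt := Y
  π :=
  { app := fun j => proj D g₀ c hY j
    naturality := fun j k a => by
      apply pullback.hom_ext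
      · simp
      · simp [c.w a.left] }

@[simp] theorem towerCone_π_app (j : Over i₀) :
    (towerCone D g₀ c hY).π.app j = proj D g₀ c hY j := rfl

attribute [local instance] CategoryTheory.isConnected_of_hasTerminal

/-- `Y` is the limit of the tower -/
noncomputable def isLimitTowerCone [IsCofiltered I] (hc : IsLimit c) :
    IsLimit (towerCone D g₀ c hY) :=
  isLimitOfIsPullbackOfIsConnected (towerToStage D g₀) _ (Cone.whisker (Over.forget i₀) c)
    (show (Cone.postcompose (towerToStage D g₀)).obj (towerCone D g₀ c hY) ⟶ Cone.whisker (Over.forget i₀) c from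
      { hom := g
        w := fun j => (proj_toStage D g₀ c hY j).symm })
    (fun j => isPullback_proj D g₀ c hY j)
    ((Functor.Initial.isLimitWhiskerEquiv (Over.forget i₀) c).symm hc)

section hom

variable {X₀ : Scheme.{u}} (f₀ : X₀ ⟶ Y₀)

/-- base change of a morphism to stage `j` -/
noncomputable def stageMap (j : Over i₀) : stage D (f₀ ≫ g₀) j ⟶ stage D g₀ j :=
  pullback.map _ _ _ _ f₀ (𝟙 _) (𝟙 _) (by simp) (by simp)

@[reassoc (attr := simp)] theorem stageMap_toBase (j : Over i₀) :
    stageMap D g₀ f₀ j ≫ toBase D g₀ j = toBase D (f₀ ≫ g₀) j ≫ f₀ := pullback.lift_fst _ _ _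

@[reassoc (attr := simp)] theorem stageMap_toStage (j : Over i₀) :
    stageMap D g₀ f₀ j ≫ toStage D g₀ j = toStage D (f₀ ≫ g₀) j :=
  (pullback.lift_snd _ _ _).trans (Category.comp_id _)

theorem isPullback_stageMap (j : Over i₀) :
    IsPullback (toBase D (f₀ ≫ g₀) j) (stageMap D g₀ f₀ j) f₀ (toBase D g₀ j) := by
  refine IsPullback.of_bot ?_ (stageMap_toBase D g₀ f₀ j).symm (isPullback_stage D g₀ j)
  rw [stageMap_toStage]
  exact isPullback_stage D (f₀ ≫ g₀) j

@[reassoc (attr := simp)] theorem trans_stageMap {j k : Over i₀} (a : j ⟶ k) :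
    trans D (f₀ ≫ g₀) a ≫ stageMap D g₀ f₀ k = stageMap D g₀ f₀ j ≫ trans D g₀ a := by
  apply pullback.hom_ext <;> simp

theorem isPullback_trans_stageMap {j k : Over i₀} (a : j ⟶ k) :
    IsPullback (trans D (f₀ ≫ g₀) a) (stageMap D g₀ f₀ j) (stageMap D g₀ f₀ k) (trans D g₀ a) := by
  refine IsPullback.of_right ?_ (trans_stageMap D g₀ f₀ a) (isPullback_stageMap D g₀ f₀ k)
  rw [trans_toBase, trans_toBase]
  exact isPullback_stageMap D g₀ f₀ j

variable {X : Scheme.{u}} {qX : X ⟶ X₀} {f : X ⟶ Y} (hX : IsPullback qX f f₀ qY)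

include hY hX in
theorem isPullback_comp : IsPullback qX (f ≫ g) (f₀ ≫ g₀) (c.π.app i₀) := hX.paste_vert hY

include hX in
theorem proj_stageMap (j : Over i₀) :
    proj D (f₀ ≫ g₀) c (isPullback_comp D g₀ c hY f₀ hX) j ≫ stageMap D g₀ f₀ j =
      f ≫ proj D g₀ c hY j := by
  apply pullback.hom_ext
  · simp [hX.w]
  · simp

include hX in
theorem isPullback_proj_stageMap (j : Over i₀) :
    IsPullback (proj D (f₀ ≫ g₀) c (isPullback_comp D g₀ c hY f₀ hX) j) f
      (stageMap D g₀ f₀ j) (proj D g₀ c hY j) := by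
  refine IsPullback.of_right ?_ (proj_stageMap D g₀ c hY f₀ hX j) (isPullback_stageMap D g₀ f₀ j)
  rw [proj_toBase, proj_toBase]
  exact hX

/-- packaging of a stage as required by the `descend` statements -/
theorem exists_descend (P : MorphismProperty Scheme.{u}) (j : Over i₀)
    (h : P (stageMap D g₀ f₀ j)) :
    ∃ (i : I) (φ : i ⟶ i₀) (Xi Yi : Scheme.{u}) (fi : Xi ⟶ Yi) (gi : Yi ⟶ D.obj i) (pY : Yi ⟶ Y₀)
      (pX : Xi ⟶ X₀), IsPullback pY gi g₀ (D.map φ) ∧ IsPullback pX fi f₀ pY ∧ P fi :=
  ⟨j.left, j.hom, _, _, _, _, _, _, isPullback_stage D g₀ j, isPullback_stageMap D g₀ f₀ j, h⟩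

end hom

end Groth.Agent.LimDesc
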