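import Groth.Agent.LimDesc.Descend
import Mathlib.AlgebraicGeometry.Morphisms.Affine
import Mathlib.AlgebraicGeometry.PullbackCarrier

universe u
open CategoryTheory CategoryTheory.Limits AlgebraicGeometry

namespace Groth.Agent.LimDesc

variable {I : Type u} [SmallCategory I] [IsCofiltered I] (D : I ⥤ Scheme.{u})
  [∀ {i j} (f : i ⟶ j), IsAffineHom (D.map f)] {i₀ : I}
variable (c : Cone D) (hc : IsLimit c)
variable {X₀ Y₀ : Scheme.{u}} (f₀ : X₀ ⟶ Y₀) (g₀ : Y₀ ⟶ D.obj i₀)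
variable {X Y : Scheme.{u}} {f : X ⟶ Y} {g : Y ⟶ c.pt} {qY : Y ⟶ Y₀} {qX : X ⟶ X₀}
variable (hY : IsPullback qY g g₀ (c.π.app i₀)) (hX : IsPullback qX f f₀ qY)

include hc in
/-- If the preimage in the limit of a quasi-compact open of `T₀` is affine, then so is its preimage
in some stage. -/
theorem exists_isAffineOpen_preimage_toBase {T₀ : Scheme.{u}} [CompactSpace T₀]
    [QuasiSeparatedSpace T₀] (gT : T₀ ⟶ D.obj i₀) {T : Scheme.{u}} {qT : T ⟶ T₀} {g' : T ⟶ c.pt}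
    (hT : IsPullback qT g' gT (c.π.app i₀)) (U : T₀.Opens) (hU : IsCompact (U : Set T₀))
    (hUa : IsAffineOpen (qT ⁻¹ᵁ U)) :
    ∃ j : Over i₀, IsAffineOpen (toBase D gT j ⁻¹ᵁ U) := by
  have haff : ∀ {i j : Over i₀} (a : i ⟶ j), IsAffineHom ((tower D gT).map a) := fun a => inferInstance
  let o : Over i₀ := Over.mk (𝟙 i₀)
  let W : ((tower D gT).obj o).Opens := toBase D gT o ⁻¹ᵁ U
  have hW : IsCompact (W : Set ((tower D gT).obj o)) :=
    QuasiCompact.isCompact_preimage (f := toBase D gT o) _ U.2 hU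
  have (k : Over o) : CompactSpace ((opensDiagram (tower D gT) o W).obj k) :=
    isCompact_iff_compactSpace.mp
      (QuasiCompact.isCompact_preimage (f := (tower D gT).map k.hom) _ W.2 hW)
  have (k : Over o) : QuasiSeparatedSpace ((opensDiagram (tower D gT) o W).obj k) :=
    have : QuasiSeparatedSpace ((tower D gT).obj k.left) := quasiSeparatedSpace_stage D gT k.left
    (isQuasiSeparated_iff_quasiSeparatedSpace _ ((tower D gT).map k.hom ⁻¹ᵁ W).2).mp
      (.of_quasiSeparatedSpace _)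
  have : IsAffine (opensCone (tower D gT) (towerCone D gT c hT) o W).pt := by
    have e : (towerCone D gT c hT).π.app o ⁻¹ᵁ W = qT ⁻¹ᵁ U := by
      show (proj D gT c hT o ≫ toBase D gT o) ⁻¹ᵁ U = qT ⁻¹ᵁ U
      rw [proj_toBase]
    show IsAffineOpen ((towerCone D gT c hT).π.app o ⁻¹ᵁ W)
    rw [e]; exact hUa
  obtain ⟨k, hk⟩ := Scheme.exists_isAffine_of_isLimit (opensDiagram (tower D gT) o W) _
    (isLimitOpensCone (tower D gT) (towerCone D gT c hT) (isLimitTowerCone D gT c hT hc) o W)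
  refine ⟨k.left, ?_⟩
  have h2 : IsAffineOpen ((tower D gT).map k.hom ⁻¹ᵁ W) := hk
  rw [tower_map] at h2
  rw [← trans_toBase D gT k.hom]
  exact h2

include hc hY hX in
/-- affine morphisms descend -/
theorem exists_isAffineHom [CompactSpace (D.obj i₀)] [QuasiSeparatedSpace (D.obj i₀)]
    [QuasiCompact g₀] [QuasiSeparated g₀] [QuasiCompact (f₀ ≫ g₀)] [QuasiSeparated (f₀ ≫ g₀)]
    [IsAffineHom f] : ∃ j : Over i₀, IsAffineHom (stageMap D g₀ f₀ j) := by
  classical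
  have : CompactSpace Y₀ := QuasiCompact.compactSpace_of_compactSpace g₀
  have : CompactSpace X₀ := QuasiCompact.compactSpace_of_compactSpace (f₀ ≫ g₀)
  have : QuasiSeparatedSpace X₀ := quasiSeparatedSpace_of_quasiSeparated (f₀ ≫ g₀)
  have : QuasiCompact f₀ := QuasiCompact.of_comp f₀ g₀
  have := isAffineHom_π_app D c hc i₀
  have : IsAffineHom qY := MorphismProperty.of_isPullback hY.flip inferInstance
  let 𝒰 := Y₀.affineCover.finiteSubcover
  let V (k : 𝒰.I₀) : Y₀.Opens := (𝒰.f k).opensRange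
  have hV (k) : IsAffineOpen (V k) := by
    have : IsAffine (𝒰.X k) := by dsimp [𝒰]; infer_instance
    exact isAffineOpen_opensRange _
  choose j hj using fun k => exists_isAffineOpen_preimage_toBase D c hc (f₀ ≫ g₀)
    (isPullback_comp D g₀ c hY f₀ hX) (f₀ ⁻¹ᵁ V k)
    (QuasiCompact.isCompact_preimage (f := f₀) _ (V k).2 (hV k).isCompact)
    (by rw [← Scheme.Hom.comp_preimage, hX.w, Scheme.Hom.comp_preimage]
        exact ((hV k).preimage qY).preimage f)
  cases nonempty_fintype 𝒰.I₀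
  obtain ⟨l, hl⟩ := IsCofiltered.inf_objs_exists (Finset.univ.image j)
  refine ⟨l, isAffineHom_of_forall_exists_isAffineOpen _ fun y => ?_⟩
  obtain ⟨k, z, hz⟩ := 𝒰.exists_eq (toBase D g₀ l y)
  refine ⟨toBase D g₀ l ⁻¹ᵁ V k, ⟨z, hz⟩, (have := isAffineHom_toBase D g₀ l; (hV k).preimage _), ?_⟩
  rw [← Scheme.Hom.comp_preimage, stageMap_toBase, Scheme.Hom.comp_preimage]
  have a : l ⟶ j k := (hl (Finset.mem_image_of_mem j (Finset.mem_univ k))).some
  rw [← trans_toBase D (f₀ ≫ g₀) a, Scheme.Hom.comp_preimage]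
  have : IsAffineHom (trans D (f₀ ≫ g₀) a) := isAffineHom_tower_map D (f₀ ≫ g₀) a
  exact (hj k).preimage (trans D (f₀ ≫ g₀) a)

/-- packaging a stage of a stage -/
theorem exists_descend_of_rebase (P : MorphismProperty Scheme.{u}) (o : Over i₀)
    (j : Over o.left)
    (h : P (stageMap D (toStage D g₀ o) (stageMap D g₀ f₀ o) j)) :
    ∃ (i : I) (φ : i ⟶ i₀) (Xi Yi : Scheme.{u}) (fi : Xi ⟶ Yi) (gi : Yi ⟶ D.obj i) (pY : Yi ⟶ Y₀)
      (pX : Xi ⟶ X₀), IsPullback pY gi g₀ (D.map φ) ∧ IsPullback pX fi f₀ pY ∧ P fi := by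
  refine ⟨j.left, j.hom ≫ o.hom, _, _, _, toStage D (toStage D g₀ o) j,
    toBase D (toStage D g₀ o) j ≫ toBase D g₀ o, _, ?_,
    (isPullback_stageMap D (toStage D g₀ o) (stageMap D g₀ f₀ o) j).paste_horiz
      (isPullback_stageMap D g₀ f₀ o), h⟩
  rw [D.map_comp]
  exact (isPullback_stage D (toStage D g₀ o) j).paste_horiz (isPullback_stage D g₀ o)

include hc hY hX in
theorem exists_isOpenImmersion_core [CompactSpace (D.obj i₀)] [QuasiSeparatedSpace (D.obj i₀)]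
    [QuasiCompact g₀] [QuasiSeparated g₀] [LocallyOfFinitePresentation g₀]
    [QuasiCompact (f₀ ≫ g₀)] [LocallyOfFinitePresentation (f₀ ≫ g₀)]
    [Mono f₀] [IsOpenImmersion f] (W : Y₀.Opens) (hW : IsCompact (W : Set Y₀))
    (hWf : qY ⁻¹ᵁ W = f.opensRange) :
    ∃ j : Over i₀, IsOpenImmersion (stageMap D g₀ f₀ j) := by
  have : CompactSpace Y₀ := QuasiCompact.compactSpace_of_compactSpace g₀
  have : QuasiSeparatedSpace Y₀ := quasiSeparatedSpace_of_quasiSeparated g₀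
  have : CompactSpace X₀ := QuasiCompact.compactSpace_of_compactSpace (f₀ ≫ g₀)
  have : CompactSpace W := isCompact_iff_compactSpace.mp hW
  have : QuasiSeparatedSpace W :=
    (isQuasiSeparated_iff_quasiSeparatedSpace _ W.2).mp (.of_quasiSeparatedSpace _)
  have hcW : ∀ j, CompactSpace ((tower D (W.ι ≫ g₀)).obj j) := fun j => compactSpace_stage D _ j
  have hqW : ∀ j, QuasiSeparatedSpace ((tower D (W.ι ≫ g₀)).obj j) :=
    fun j => quasiSeparatedSpace_stage D _ j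
  have haW : ∀ {a b : Over i₀} (e : a ⟶ b), IsAffineHom ((tower D (W.ι ≫ g₀)).map e) :=
    fun e => isAffineHom_tower_map D _ e
  have hT : IsPullback (qY ∣_ W) ((qY ⁻¹ᵁ W).ι ≫ g) (W.ι ≫ g₀) (c.π.app i₀) :=
    (isPullback_morphismRestrict qY W).paste_vert hY
  let r : (qY ⁻¹ᵁ W).toScheme ⟶ X := IsOpenImmersion.lift f (qY ⁻¹ᵁ W).ι (by
    rw [Scheme.Opens.range_ι, hWf]; exact le_rfl)
  have hr : r ≫ f = (qY ⁻¹ᵁ W).ι := IsOpenImmersion.lift_fac _ _ _
  have hra : (r ≫ qX) ≫ f₀ = (qY ∣_ W) ≫ W.ι := by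
    rw [Category.assoc, hX.w, reassoc_of% hr, morphismRestrict_ι]
  obtain ⟨k, s₀, hs₀, hs₀'⟩ := Scheme.exists_π_app_comp_eq_of_locallyOfFinitePresentation
    (tower D (W.ι ≫ g₀)) (towerToBase D (W.ι ≫ g₀) ≫ (Functor.const _).map (W.ι ≫ g₀))
    (f₀ ≫ g₀) _ (isLimitTowerCone D (W.ι ≫ g₀) c hT hc) (r ≫ qX) (by
      ext k
      show proj D (W.ι ≫ g₀) c hT k ≫ toBase D (W.ι ≫ g₀) k ≫ W.ι ≫ g₀ = (r ≫ qX) ≫ f₀ ≫ g₀
      rw [proj_toBase_assoc, ← reassoc_of% hra]; simp only [Category.assoc])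
  have hs₁ : proj D (W.ι ≫ g₀) c hT k ≫ (s₀ : stage D (W.ι ≫ g₀) k ⟶ X₀) = r ≫ qX := hs₀
  obtain ⟨l, φ, hl⟩ := Scheme.exists_hom_comp_eq_comp_of_locallyOfFiniteType
    (tower D (W.ι ≫ g₀)) (towerToBase D (W.ι ≫ g₀) ≫ (Functor.const _).map (W.ι ≫ g₀)) g₀ _
    (isLimitTowerCone D (W.ι ≫ g₀) c hT hc) (i := k) (s₀ ≫ f₀)
    (toBase D (W.ι ≫ g₀) k ≫ W.ι)
    (hs₀'.symm.trans (Category.assoc _ _ _).symm) (Category.assoc _ _ _).symm (by
      show proj D (W.ι ≫ g₀) c hT k ≫ s₀ ≫ f₀ =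
        proj D (W.ι ≫ g₀) c hT k ≫ toBase D (W.ι ≫ g₀) k ≫ W.ι
      rw [proj_toBase_assoc, ← hra]
      exact (Category.assoc _ _ _).symm.trans (congrArg (· ≫ f₀) hs₁))
  have hl' : trans D (W.ι ≫ g₀) φ ≫ s₀ ≫ f₀ = toBase D (W.ι ≫ g₀) l ≫ W.ι := by
    rw [← trans_toBase D (W.ι ≫ g₀) φ, Category.assoc]; exact hl
  -- the image of `X` lies in `W` at some stage
  let o : Over i₀ := Over.mk (𝟙 i₀)
  have hXS := isPullback_comp D g₀ c hY f₀ hX
  have hcX : ∀ j, CompactSpace ((tower D (f₀ ≫ g₀)).obj j) := fun j => compactSpace_stage D _ j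
  have haX : ∀ {a b : Over i₀} (e : a ⟶ b), IsAffineHom ((tower D (f₀ ≫ g₀)).map e) :=
    fun e => isAffineHom_tower_map D _ e
  obtain ⟨n, α, hn⟩ := exists_map_preimage_le_map_preimage (tower D (f₀ ≫ g₀))
    (towerCone D (f₀ ≫ g₀) c hXS) (isLimitTowerCone D (f₀ ≫ g₀) c hXS hc) (i := o)
    (U := ⊤) (V := (toBase D (f₀ ≫ g₀) o ≫ f₀) ⁻¹ᵁ W) (by exact isCompact_univ) (by
      intro x _
      show (proj D (f₀ ≫ g₀) c hXS o ≫ toBase D (f₀ ≫ g₀) o ≫ f₀) x ∈ W
      rw [proj_toBase_assoc, hX.w]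
      show f (show X from x) ∈ qY ⁻¹ᵁ W
      rw [hWf]; exact ⟨x, rfl⟩)
  obtain ⟨m, μ₁, μ₂, -⟩ := IsCofilteredOrEmpty.cone_objs n l
  refine ⟨m, ?_⟩
  have : Mono (stageMap D g₀ f₀ m) :=
    MorphismProperty.of_isPullback (P := MorphismProperty.monomorphisms Scheme.{u})
      (isPullback_stageMap D g₀ f₀ m) (inferInstance : Mono f₀)
  have : IsOpenImmersion (stageMap D g₀ W.ι m) :=
    MorphismProperty.of_isPullback (P := @IsOpenImmersion) (isPullback_stageMap D g₀ W.ι m) inferInstance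
  let σ : stage D (W.ι ≫ g₀) m ⟶ X₀ := trans D (W.ι ≫ g₀) μ₂ ≫ trans D (W.ι ≫ g₀) φ ≫ s₀
  have hσ : σ ≫ f₀ = toBase D (W.ι ≫ g₀) m ≫ W.ι := by
    simp only [σ, Category.assoc]
    erw [hl']
    rw [trans_toBase_assoc]
  let s : stage D (W.ι ≫ g₀) m ⟶ stage D (f₀ ≫ g₀) m := pullback.lift σ (toStage D (W.ι ≫ g₀) m)
    (by rw [reassoc_of% hσ, (isPullback_stage D (W.ι ≫ g₀) m).w])
  have hs : s ≫ stageMap D g₀ f₀ m = stageMap D g₀ W.ι m := by
    apply pullback.hom_ext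
    · rw [Category.assoc, stageMap_toBase, stageMap_toBase]; simp [s, hσ]
    · rw [Category.assoc, stageMap_toStage, stageMap_toStage]; simp [s]
  let q : stage D (f₀ ≫ g₀) m ⟶ stage D (W.ι ≫ g₀) m :=
    IsOpenImmersion.lift (stageMap D g₀ W.ι m) (stageMap D g₀ f₀ m) (by
      rintro _ ⟨x, rfl⟩
      have h1 := hn (show trans D (f₀ ≫ g₀) μ₁ x ∈ (tower D (f₀ ≫ g₀)).map α ⁻¹ᵁ ⊤ from trivial)
      change (toBase D (f₀ ≫ g₀) o ≫ f₀) (trans D (f₀ ≫ g₀) α (trans D (f₀ ≫ g₀) μ₁ x)) ∈ W at h1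
      rw [← Scheme.Hom.comp_apply, ← Scheme.Hom.comp_apply, trans_toBase_assoc,
        trans_toBase_assoc, ← stageMap_toBase, Scheme.Hom.comp_apply] at h1
      obtain ⟨z, -, hz⟩ := Scheme.exists_preimage_of_isPullback (isPullback_stageMap D g₀ W.ι m)
        ⟨_, h1⟩ (stageMap D g₀ f₀ m x) rfl
      exact ⟨z, hz⟩)
  have hq : q ≫ stageMap D g₀ W.ι m = stageMap D g₀ f₀ m := IsOpenImmersion.lift_fac _ _ _
  have : IsIso q := ⟨s, (cancel_mono (stageMap D g₀ f₀ m)).1 (by simp [hs, hq]),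
    (cancel_mono (stageMap D g₀ W.ι m)).1 (by simp [hs, hq])⟩
  rw [← hq]; infer_instance

include hc hY hX in
/-- open immersions descend -/
theorem exists_isOpenImmersion [CompactSpace (D.obj i₀)] [QuasiSeparatedSpace (D.obj i₀)]
    [QuasiCompact g₀] [QuasiSeparated g₀] [LocallyOfFinitePresentation g₀]
    [QuasiCompact (f₀ ≫ g₀)] [LocallyOfFinitePresentation (f₀ ≫ g₀)] [IsOpenImmersion f] :
    ∃ (i : I) (φ : i ⟶ i₀) (Xi Yi : Scheme.{u}) (fi : Xi ⟶ Yi) (gi : Yi ⟶ D.obj i) (pY : Yi ⟶ Y₀)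
      (pX : Xi ⟶ X₀), IsPullback pY gi g₀ (D.map φ) ∧ IsPullback pX fi f₀ pY ∧ IsOpenImmersion fi := by
  have : CompactSpace Y₀ := QuasiCompact.compactSpace_of_compactSpace g₀
  have : QuasiSeparatedSpace Y₀ := quasiSeparatedSpace_of_quasiSeparated g₀
  have : CompactSpace X₀ := QuasiCompact.compactSpace_of_compactSpace (f₀ ≫ g₀)
  have := isAffineHom_π_app D c hc i₀
  have hXS := isPullback_comp D g₀ c hY f₀ hX
  have : IsAffineHom qX := MorphismProperty.of_isPullback hXS.flip inferInstance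
  have : CompactSpace X := QuasiCompact.compactSpace_of_compactSpace qX
  have : ∀ {i j : Over i₀} (a : i ⟶ j), IsAffineHom ((tower D g₀).map a) :=
    fun a => isAffineHom_tower_map D g₀ a
  obtain ⟨j₁, hj₁⟩ := exists_mono D c hc f₀ g₀ hY hX
  obtain ⟨j₀, V, hV, hVf⟩ := exists_preimage_eq (tower D g₀) (towerCone D g₀ c hY)
    (isLimitTowerCone D g₀ c hY hc) f.opensRange (isCompact_range f.continuous)
  obtain ⟨o, a, b, -⟩ := IsCofilteredOrEmpty.cone_objs j₀ j₁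
  have : Mono (stageMap D g₀ f₀ o) :=
    MorphismProperty.of_isPullback (P := MorphismProperty.monomorphisms Scheme.{u})
      (isPullback_trans_stageMap D g₀ f₀ b) hj₁
  have hYo := isPullback_proj D g₀ c hY o
  have hXo := isPullback_proj_stageMap D g₀ c hY f₀ hX o
  have : IsAffineHom (D.map o.hom) := inferInstance
  have : CompactSpace (D.obj o.left) := QuasiCompact.compactSpace_of_compactSpace (D.map o.hom)
  have : QuasiSeparatedSpace (D.obj o.left) := quasiSeparatedSpace_of_quasiSeparated (D.map o.hom)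
  have hPB := isPullback_stage D g₀ o
  have : QuasiCompact (toStage D g₀ o) := MorphismProperty.of_isPullback hPB inferInstance
  have : QuasiSeparated (toStage D g₀ o) := MorphismProperty.of_isPullback hPB inferInstance
  have : LocallyOfFinitePresentation (toStage D g₀ o) :=
    MorphismProperty.of_isPullback (P := @LocallyOfFinitePresentation) hPB inferInstance
  have hPB' := isPullback_stage D (f₀ ≫ g₀) o
  have : QuasiCompact (stageMap D g₀ f₀ o ≫ toStage D g₀ o) := by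
    rw [stageMap_toStage]; exact MorphismProperty.of_isPullback hPB' inferInstance
  have : LocallyOfFinitePresentation (stageMap D g₀ f₀ o ≫ toStage D g₀ o) := by
    rw [stageMap_toStage]
    exact MorphismProperty.of_isPullback (P := @LocallyOfFinitePresentation) hPB' inferInstance
  have : IsAffineHom (trans D g₀ a) := isAffineHom_tower_map D g₀ a
  obtain ⟨j, hj⟩ := exists_isOpenImmersion_core D c hc (i₀ := o.left) (stageMap D g₀ f₀ o)
    (toStage D g₀ o) hYo hXo (trans D g₀ a ⁻¹ᵁ V)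
    (QuasiCompact.isCompact_preimage (f := trans D g₀ a) _ V.2 hV) (by
      refine Eq.trans ?_ hVf
      refine Eq.trans ?_ (congrArg (· ⁻¹ᵁ V) ((towerCone D g₀ c hY).w a))
      rfl)
  exact exists_descend_of_rebase D f₀ g₀ @IsOpenImmersion o j hj

end Groth.Agent.LimDesc
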