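import Mathlib.AlgebraicGeometry.Morphisms.FinitePresentation
import Mathlib.AlgebraicGeometry.Morphisms.FiniteType

universe u
open CategoryTheory AlgebraicGeometry

namespace Groth.Agent.LimDesc

/-- If `f ≫ g` is locally of finite presentation and `g` is locally of finite type then `f` is
locally of finite presentation. -/
theorem lfp_of_comp {X Y Z : Scheme.{u}} (f : X ⟶ Y) (g : Y ⟶ Z) [LocallyOfFiniteType g]
    [LocallyOfFinitePresentation (f ≫ g)] : LocallyOfFinitePresentation f := by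
  rw [HasRingHomProperty.iff_exists_appLE (P := @LocallyOfFinitePresentation)
    (RingHom.finitePresentation_stableUnderComposition.stableUnderCompositionWithLocalizationAway
      RingHom.finitePresentation_holdsForLocalizationAway).left]
  intro x
  obtain ⟨W, ⟨W', hW', rfl⟩, hxW, -⟩ :=
    Z.isBasis_affineOpens.exists_subset_of_mem_open (Set.mem_univ (g (f x))) isOpen_univ
  obtain ⟨V, ⟨V', hV', rfl⟩, hxV, hVW⟩ :=
    Y.isBasis_affineOpens.exists_subset_of_mem_open (show f x ∈ (g ⁻¹ᵁ W').1 from hxW) (g ⁻¹ᵁ W').2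
  obtain ⟨U, ⟨U', hU', rfl⟩, hxU, hUV⟩ :=
    X.isBasis_affineOpens.exists_subset_of_mem_open (show x ∈ (f ⁻¹ᵁ V').1 from hxV) (f ⁻¹ᵁ V').2
  refine ⟨⟨V', hV'⟩, ⟨U', hU'⟩, hxU, hUV, ?_⟩
  have h1 := HasRingHomProperty.appLE @LocallyOfFiniteType g inferInstance ⟨W', hW'⟩ ⟨V', hV'⟩ hVW
  have h2 := HasRingHomProperty.appLE @LocallyOfFinitePresentation (f ≫ g) inferInstance ⟨W', hW'⟩
    ⟨U', hU'⟩ (hUV.trans (f.preimage_mono hVW))
  rw [← Scheme.Hom.appLE_comp_appLE f g W' V' U' hVW hUV, CommRingCat.hom_comp] at h2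
  exact RingHom.FinitePresentation.of_comp_finiteType _ h2 h1

end Groth.Agent.LimDesc
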