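import Groth.Agent.LimDesc.DescendAffine
import Mathlib.AlgebraicGeometry.Morphisms.ClosedImmersion
import Mathlib.RingTheory.FiniteType

/-!
Descent of closed immersions along cofiltered limits with affine transition maps.
-/

universe u
open CategoryTheory CategoryTheory.Limits AlgebraicGeometry

namespace Groth.Agent.LimDesc

variable {I : Type u} [SmallCategory I] [IsCofiltered I] (D : I ⥤ Scheme.{u})
  [∀ {i j} (f : i ⟶ j), IsAffineHom (D.map f)] {i₀ : I}
variable (c : Cone D) (hc : IsLimit c)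
variable {X₀ Y₀ : Scheme.{u}} (f₀ : X₀ ⟶ Y₀) (g₀ : Y₀ ⟶ D.obj i₀)
variable {X Y : Scheme.{u}} {f : X ⟶ Y} {g : Y ⟶ c.pt} {qY : Y ⟶ Y₀} {qX : X ⟶ X₀}
variable (hY : IsPullback qY g g₀ (c.π.app i₀)) (hX : IsPullback qX f f₀ qY)

include hc hY hX in
/-- the affine case -/
theorem exists_isClosedImmersion_of_isAffine [IsAffine X₀] [IsAffine Y₀] [LocallyOfFiniteType f₀]
    [IsClosedImmersion f] : ∃ j : Over i₀, IsClosedImmersion (stageMap D g₀ f₀ j) := by
  classical
  have := isAffineHom_π_app D c hc i₀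
  have : IsAffineHom qY := MorphismProperty.of_isPullback hY.flip inferInstance
  have : IsAffine Y := isAffine_of_isAffineHom qY
  have hXS := isPullback_comp D g₀ c hY f₀ hX
  have haY : ∀ {i j : Over i₀} (a : i ⟶ j), IsAffineHom ((tower D g₀).map a) :=
    fun a => isAffineHom_tower_map D g₀ a
  have haX : ∀ {i j : Over i₀} (a : i ⟶ j), IsAffineHom ((tower D (f₀ ≫ g₀)).map a) :=
    fun a => isAffineHom_tower_map D (f₀ ≫ g₀) a
  have hYa : ∀ j, IsAffine (stage D g₀ j) := fun j =>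
    have := isAffineHom_toBase D g₀ j; isAffine_of_isAffineHom (toBase D g₀ j)
  have hXa : ∀ j, IsAffine (stage D (f₀ ≫ g₀) j) := fun j =>
    have := isAffineHom_toBase D (f₀ ≫ g₀) j; isAffine_of_isAffineHom (toBase D (f₀ ≫ g₀) j)
  have hcY : ∀ j, CompactSpace ((tower D g₀).obj j) := fun j => compactSpace_stage D g₀ j
  have hqY : ∀ j, QuasiSeparatedSpace ((tower D g₀).obj j) := fun j => quasiSeparatedSpace_stage D g₀ j
  have hcX : ∀ j, CompactSpace ((tower D (f₀ ≫ g₀)).obj j) := fun j => compactSpace_stage D _ j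
  have hft : f₀.appTop.hom.FiniteType :=
    (HasRingHomProperty.iff_of_isAffine (P := @LocallyOfFiniteType)).1 inferInstance
  algebraize [f₀.appTop.hom]
  obtain ⟨s, hs⟩ := (inferInstance : Algebra.FiniteType Γ(Y₀, ⊤) Γ(X₀, ⊤)).out
  have hsurj := (IsClosedImmersion.isAffine_surjective_of_isAffine f).2
  have key : ∀ b : Γ(X₀, ⊤), ∃ (j : Over i₀) (a : Γ(stage D g₀ j, ⊤)),
      (stageMap D g₀ f₀ j).appTop a = (toBase D (f₀ ≫ g₀) j).appTop b := by
    intro b
    obtain ⟨a, ha⟩ := hsurj (qX.appTop b)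
    obtain ⟨j, (a' : Γ(stage D g₀ j, ⊤)), ha'⟩ := exists_appTop_π_eq_of_isLimit (tower D g₀) (towerCone D g₀ c hY)
      (isLimitTowerCone D g₀ c hY hc) a
    have h0 : (proj D (f₀ ≫ g₀) c hXS j).appTop ((stageMap D g₀ f₀ j).appTop a') =
        (proj D (f₀ ≫ g₀) c hXS j).appTop ((toBase D (f₀ ≫ g₀) j).appTop b) := by
      rw [← CommRingCat.comp_apply, ← Scheme.Hom.comp_appTop, ← CommRingCat.comp_apply,
        ← Scheme.Hom.comp_appTop, proj_toBase, proj_stageMap D g₀ c hY f₀ hX j,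
        Scheme.Hom.comp_appTop, CommRingCat.comp_apply, ← ha]
      exact congrArg f.appTop ha'.symm
    obtain ⟨k, φ, hk⟩ := exists_appTop_map_eq_zero_of_isLimit (tower D (f₀ ≫ g₀))
      (towerCone D (f₀ ≫ g₀) c hXS) (isLimitTowerCone D (f₀ ≫ g₀) c hXS hc)
      ((stageMap D g₀ f₀ j).appTop a' - (toBase D (f₀ ≫ g₀) j).appTop b)
      (show (proj D (f₀ ≫ g₀) c hXS j).appTop _ = 0 by rw [map_sub, sub_eq_zero]; exact h0)
    refine ⟨k, (trans D g₀ φ).appTop a', ?_⟩
    replace hk : (trans D (f₀ ≫ g₀) φ).appTop ((stageMap D g₀ f₀ j).appTop a' -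
      (toBase D (f₀ ≫ g₀) j).appTop b) = 0 := hk
    rw [map_sub, sub_eq_zero] at hk
    refine Eq.trans ?_ (hk.trans ?_)
    · show _ = (trans D (f₀ ≫ g₀) φ).appTop _
      rw [← CommRingCat.comp_apply, ← Scheme.Hom.comp_appTop, ← CommRingCat.comp_apply,
        ← Scheme.Hom.comp_appTop, trans_stageMap]
    · show (trans D (f₀ ≫ g₀) φ).appTop _ = _
      rw [← CommRingCat.comp_apply, ← Scheme.Hom.comp_appTop, trans_toBase]
  choose j a ha using key
  obtain ⟨l, hl⟩ := IsCofiltered.inf_objs_exists (s.image j)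
  refine ⟨l, ?_⟩
  have := hYa l
  have := hXa l
  set fl := stageMap D g₀ f₀ l
  let E := fl.appTop.hom.range
  have hgen : ∀ b : Γ(X₀, ⊤), (toBase D (f₀ ≫ g₀) l).appTop b ∈ E := by
    have hbase : ∀ r : Γ(Y₀, ⊤), (toBase D (f₀ ≫ g₀) l).appTop (f₀.appTop r) ∈ E := fun r =>
      ⟨(toBase D g₀ l).appTop r, by
        rw [← CommRingCat.comp_apply, ← Scheme.Hom.comp_appTop, ← CommRingCat.comp_apply,
          ← Scheme.Hom.comp_appTop, stageMap_toBase]⟩
    intro b
    have hb : b ∈ Algebra.adjoin Γ(Y₀, ⊤) (s : Set Γ(X₀, ⊤)) := hs ▸ Algebra.mem_top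
    induction hb using Algebra.adjoin_induction with
    | mem x hx =>
      have φ : l ⟶ j x := (hl (Finset.mem_image_of_mem j hx)).some
      refine ⟨(trans D g₀ φ).appTop (a x), ?_⟩
      rw [← CommRingCat.comp_apply, ← Scheme.Hom.comp_appTop, ← trans_stageMap, Scheme.Hom.comp_appTop,
        CommRingCat.comp_apply, ha x, ← CommRingCat.comp_apply, ← Scheme.Hom.comp_appTop, trans_toBase]
    | algebraMap r => exact hbase r
    | add x y _ _ hx hy => rw [map_add]; exact add_mem hx hy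
    | mul x y _ _ hx hy => rw [map_mul]; exact mul_mem hx hy
  have hpo := isPushout_appTop_of_isPullback (isPullback_stageMap D g₀ f₀ l)
  have hu : CommRingCat.ofHom ((toBase D (f₀ ≫ g₀) l).appTop.hom.codRestrict E hgen) ≫
      CommRingCat.ofHom E.subtype = (toBase D (f₀ ≫ g₀) l).appTop := rfl
  have hv : CommRingCat.ofHom fl.appTop.hom.rangeRestrict ≫ CommRingCat.ofHom E.subtype = fl.appTop := rfl
  let inv := hpo.desc (CommRingCat.ofHom ((toBase D (f₀ ≫ g₀) l).appTop.hom.codRestrict E hgen))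
    (CommRingCat.ofHom fl.appTop.hom.rangeRestrict) (by
      have : Mono (CommRingCat.ofHom E.subtype) :=
        ConcreteCategory.mono_of_injective _ Subtype.val_injective
      rw [← cancel_mono (CommRingCat.ofHom E.subtype), Category.assoc, Category.assoc, hu, hv]
      exact hpo.w)
  have hinv : inv ≫ CommRingCat.ofHom E.subtype = 𝟙 _ := by
    apply hpo.hom_ext
    · rw [hpo.inl_desc_assoc, hu, Category.comp_id]
    · rw [hpo.inr_desc_assoc, hv, Category.comp_id]
  refine IsClosedImmersion.of_surjective_of_isAffine _ fun y => ?_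
  obtain ⟨z, hz⟩ := (inv y).2
  exact ⟨z, hz.trans (congr($hinv y))⟩

include hc hY hX in
/-- closed immersions descend, given affineness -/
theorem exists_isClosedImmersion_of_isAffineHom [CompactSpace Y₀] [IsAffineHom f₀]
    [LocallyOfFiniteType f₀] [IsClosedImmersion f] :
    ∃ j : Over i₀, IsClosedImmersion (stageMap D g₀ f₀ j) := by
  classical
  let 𝒰 := Y₀.affineCover.finiteSubcover
  have haff : ∀ k, IsAffine (𝒰.X k) := fun k => by dsimp [𝒰]; infer_instance
  have key : ∀ k, ∃ j : Over i₀,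
      IsClosedImmersion (stageMap D (𝒰.f k ≫ g₀) (pullback.snd f₀ (𝒰.f k)) j) := by
    intro k
    have := haff k
    have : IsAffineHom (pullback.snd f₀ (𝒰.f k)) :=
      MorphismProperty.of_isPullback (P := @IsAffineHom) (IsPullback.of_hasPullback f₀ (𝒰.f k)) inferInstance
    have : IsAffine (pullback f₀ (𝒰.f k)) := isAffine_of_isAffineHom (pullback.snd f₀ (𝒰.f k))
    have : LocallyOfFiniteType (pullback.snd f₀ (𝒰.f k)) :=
      MorphismProperty.of_isPullback (P := @LocallyOfFiniteType) (IsPullback.of_hasPullback f₀ (𝒰.f k)) inferInstance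
    let qY' : pullback qY (𝒰.f k) ⟶ 𝒰.X k := pullback.snd _ _
    have hY' : IsPullback qY' (pullback.fst qY (𝒰.f k) ≫ g) (𝒰.f k ≫ g₀) (c.π.app i₀) :=
      (IsPullback.of_hasPullback qY (𝒰.f k)).flip.paste_vert hY
    have hX' := IsPullback.of_hasPullback (pullback.snd f₀ (𝒰.f k)) qY'
    have h1 := hX'.paste_horiz (IsPullback.of_hasPullback f₀ (𝒰.f k))
    rw [show qY' ≫ 𝒰.f k = pullback.fst qY (𝒰.f k) ≫ qY from pullback.condition.symm] at h1
    have h2 : IsPullback (hX.lift _ _ (h1.w.trans (Category.assoc _ _ _).symm))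
        (pullback.snd (pullback.snd f₀ (𝒰.f k)) qY') f (pullback.fst qY (𝒰.f k)) := by
      refine IsPullback.of_right ?_ (hX.lift_snd _ _ _) hX
      rw [hX.lift_fst]; exact h1
    have : IsClosedImmersion (pullback.snd (pullback.snd f₀ (𝒰.f k)) qY') :=
      MorphismProperty.of_isPullback (P := @IsClosedImmersion) h2 inferInstance
    exact exists_isClosedImmersion_of_isAffine D c hc _ _ hY' hX'
  choose j hj using key
  cases nonempty_fintype 𝒰.I₀
  obtain ⟨l, hl⟩ := IsCofiltered.inf_objs_exists (Finset.univ.image j)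
  refine ⟨l, IsZariskiLocalAtTarget.of_openCover (P := @IsClosedImmersion)
    (𝒰.pullback₁ (toBase D g₀ l)) fun (k : 𝒰.I₀) => ?_⟩
  have a : l ⟶ j k := (hl (Finset.mem_image_of_mem j (Finset.mem_univ k))).some
  let p : pullback (toBase D g₀ l) (𝒰.f k) ⟶ stage D g₀ l := pullback.fst _ _
  let u : pullback (toBase D g₀ l) (𝒰.f k) ⟶ stage D (𝒰.f k ≫ g₀) (j k) :=
    pullback.lift (pullback.snd _ _) (p ≫ toStage D g₀ l ≫ D.map a.left) (by
      rw [← reassoc_of% (pullback.condition (f := toBase D g₀ l) (g := 𝒰.f k)),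
        (isPullback_stage D g₀ l).w, Category.assoc, Category.assoc, ← D.map_comp, Over.w a])
  have hu : u ≫ toBase D (𝒰.f k ≫ g₀) (j k) = pullback.snd _ _ := pullback.lift_fst _ _ _
  have h1 := (IsPullback.of_hasPullback (stageMap D g₀ f₀ l) p).paste_horiz
    (isPullback_stageMap D g₀ f₀ l)
  rw [show p ≫ toBase D g₀ l = u ≫ toBase D (𝒰.f k ≫ g₀) (j k) ≫ 𝒰.f k by
    rw [reassoc_of% hu]; exact pullback.condition] at h1
  have h2 := (isPullback_stageMap D (𝒰.f k ≫ g₀) (pullback.snd f₀ (𝒰.f k)) (j k)).paste_horiz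
    (IsPullback.of_hasPullback f₀ (𝒰.f k))
  have h3 : IsPullback (h2.lift _ _ (h1.w.trans (Category.assoc _ _ _).symm))
      (pullback.snd (stageMap D g₀ f₀ l) p)
      (stageMap D (𝒰.f k ≫ g₀) (pullback.snd f₀ (𝒰.f k)) (j k)) u := by
    refine IsPullback.of_right ?_ (h2.lift_snd _ _ _) h2
    rw [h2.lift_fst]; exact h1
  exact MorphismProperty.of_isPullback (P := @IsClosedImmersion) h3 (hj k)

include hc hY hX in
/-- closed immersions descend -/
theorem exists_isClosedImmersion [CompactSpace (D.obj i₀)] [QuasiSeparatedSpace (D.obj i₀)]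
    [QuasiCompact g₀] [QuasiSeparated g₀] [LocallyOfFinitePresentation g₀]
    [QuasiCompact (f₀ ≫ g₀)] [QuasiSeparated (f₀ ≫ g₀)] [LocallyOfFinitePresentation (f₀ ≫ g₀)]
    [IsClosedImmersion f] :
    ∃ (i : I) (φ : i ⟶ i₀) (Xi Yi : Scheme.{u}) (fi : Xi ⟶ Yi) (gi : Yi ⟶ D.obj i) (pY : Yi ⟶ Y₀)
      (pX : Xi ⟶ X₀), IsPullback pY gi g₀ (D.map φ) ∧ IsPullback pX fi f₀ pY ∧ IsClosedImmersion fi := by
  obtain ⟨o, ho⟩ := exists_isAffineHom D c hc f₀ g₀ hY hX
  have : LocallyOfFinitePresentation f₀ := lfp_of_comp f₀ g₀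
  have : LocallyOfFiniteType (stageMap D g₀ f₀ o) :=
    MorphismProperty.of_isPullback (P := @LocallyOfFiniteType) (isPullback_stageMap D g₀ f₀ o) inferInstance
  have : CompactSpace Y₀ := QuasiCompact.compactSpace_of_compactSpace g₀
  have : CompactSpace (stage D g₀ o) := compactSpace_stage D g₀ o
  obtain ⟨j, hj⟩ := exists_isClosedImmersion_of_isAffineHom D c hc (i₀ := o.left)
    (stageMap D g₀ f₀ o) (toStage D g₀ o) (isPullback_proj D g₀ c hY o)
    (isPullback_proj_stageMap D g₀ c hY f₀ hX o)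
  exact exists_descend_of_rebase D f₀ g₀ @IsClosedImmersion o j hj

omit [IsCofiltered I] [∀ {i j} (f : i ⟶ j), IsAffineHom (D.map f)] in
/-- compose a descended closed immersion with the base change of an open immersion -/
theorem exists_descend_immersion (W : Y₀.Opens) (f₁ : X₀ ⟶ W.toScheme) (hf : f₁ ≫ W.ι = f₀)
    (h : ∃ (i : I) (φ : i ⟶ i₀) (Xi Wi : Scheme.{u}) (fi : Xi ⟶ Wi) (gi : Wi ⟶ D.obj i) (pW : Wi ⟶ W)
      (pX : Xi ⟶ X₀), IsPullback pW gi (W.ι ≫ g₀) (D.map φ) ∧ IsPullback pX fi f₁ pW ∧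
        IsClosedImmersion fi) :
    ∃ (i : I) (φ : i ⟶ i₀) (Xi Yi : Scheme.{u}) (fi : Xi ⟶ Yi) (gi : Yi ⟶ D.obj i) (pY : Yi ⟶ Y₀)
      (pX : Xi ⟶ X₀), IsPullback pY gi g₀ (D.map φ) ∧ IsPullback pX fi f₀ pY ∧ IsImmersion fi := by
  obtain ⟨i, φ, Xi, Wi, fi, gi, pW, pX, hW, hX, hfi⟩ := h
  have hP := IsPullback.of_hasPullback g₀ (D.map φ)
  let e : Wi ⟶ pullback g₀ (D.map φ) := pullback.lift (pW ≫ W.ι) gi (by rw [Category.assoc]; exact hW.w)
  have he : IsPullback pW e W.ι (pullback.fst g₀ (D.map φ)) := by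
    refine IsPullback.of_bot ?_ (pullback.lift_fst _ _ _).symm hP
    rw [pullback.lift_snd]; exact hW
  have : IsOpenImmersion e :=
    MorphismProperty.of_isPullback (P := @IsOpenImmersion) he inferInstance
  refine ⟨i, φ, Xi, _, fi ≫ e, _, _, pX, hP, ?_, inferInstance⟩
  rw [← hf]
  exact hX.paste_vert he

include hc hY hX in
/-- immersions descend -/
theorem exists_isImmersion [CompactSpace (D.obj i₀)] [QuasiSeparatedSpace (D.obj i₀)]
    [QuasiCompact g₀] [QuasiSeparated g₀] [LocallyOfFinitePresentation g₀]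
    [QuasiCompact (f₀ ≫ g₀)] [QuasiSeparated (f₀ ≫ g₀)] [LocallyOfFinitePresentation (f₀ ≫ g₀)]
    [IsImmersion f] :
    ∃ (i : I) (φ : i ⟶ i₀) (Xi Yi : Scheme.{u}) (fi : Xi ⟶ Yi) (gi : Yi ⟶ D.obj i) (pY : Yi ⟶ Y₀)
      (pX : Xi ⟶ X₀), IsPullback pY gi g₀ (D.map φ) ∧ IsPullback pX fi f₀ pY ∧ IsImmersion fi := by
  classical
  have : CompactSpace Y₀ := QuasiCompact.compactSpace_of_compactSpace g₀
  have : QuasiSeparatedSpace Y₀ := quasiSeparatedSpace_of_quasiSeparated g₀
  have : CompactSpace X₀ := QuasiCompact.compactSpace_of_compactSpace (f₀ ≫ g₀)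
  have := isAffineHom_π_app D c hc i₀
  have hXS := isPullback_comp D g₀ c hY f₀ hX
  have : IsAffineHom qX := MorphismProperty.of_isPullback hXS.flip inferInstance
  have : CompactSpace X := QuasiCompact.compactSpace_of_compactSpace qX
  -- a quasi-compact open in which the image is closed
  obtain ⟨U, hU, hfU, hUo⟩ : ∃ U : Y.Opens, IsCompact (U : Set Y) ∧ Set.range f ⊆ U ∧
      U ≤ f.coborderRange := by
    obtain ⟨s, hs, hsf, hsU⟩ := (isCompact_range f.continuous).elim_finite_subcover_image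
      (b := {V : Y.affineOpens | (V : Y.Opens) ≤ f.coborderRange}) (c := fun V => ((V : Y.Opens) : Set Y))
      (fun V _ => (V : Y.Opens).2) (fun y hy => by
        obtain ⟨_, ⟨V, hV, rfl⟩, hyV, hVs⟩ := Y.isBasis_affineOpens.exists_subset_of_mem_open
          (show y ∈ (f.coborderRange : Set Y) from subset_coborder hy) f.coborderRange.2
        exact Set.mem_iUnion₂.2 ⟨⟨V, hV⟩, hVs, hyV⟩)
    refine ⟨⨆ V ∈ s, (V : Y.Opens), ?_, fun y hy => ?_, iSup₂_le fun V hV => hs hV⟩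
    · rw [show ((⨆ V ∈ s, (V : Y.Opens) : Y.Opens) : Set Y) = ⋃ V ∈ s, ((V : Y.Opens) : Set Y) by simp]
      exact hsf.isCompact_biUnion fun V _ => V.2.isCompact
    · simpa using hsU hy
  have haY : ∀ {i j : Over i₀} (a : i ⟶ j), IsAffineHom ((tower D g₀).map a) :=
    fun a => isAffineHom_tower_map D g₀ a
  have hcY : ∀ j, CompactSpace ((tower D g₀).obj j) := fun j => compactSpace_stage D g₀ j
  have haX : ∀ {i j : Over i₀} (a : i ⟶ j), IsAffineHom ((tower D (f₀ ≫ g₀)).map a) :=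
    fun a => isAffineHom_tower_map D (f₀ ≫ g₀) a
  have hcX : ∀ j, CompactSpace ((tower D (f₀ ≫ g₀)).obj j) := fun j => compactSpace_stage D _ j
  obtain ⟨j₀, V, hV, hVU⟩ := exists_preimage_eq (tower D g₀) (towerCone D g₀ c hY)
    (isLimitTowerCone D g₀ c hY hc) U hU
  obtain ⟨o, a, ha⟩ := exists_map_preimage_le_map_preimage (tower D (f₀ ≫ g₀))
    (towerCone D (f₀ ≫ g₀) c hXS) (isLimitTowerCone D (f₀ ≫ g₀) c hXS hc) (i := j₀)
    (U := ⊤) (V := stageMap D g₀ f₀ j₀ ⁻¹ᵁ V) (by exact isCompact_univ) (by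
      intro x _
      show (proj D (f₀ ≫ g₀) c hXS j₀ ≫ stageMap D g₀ f₀ j₀) (show X from x) ∈ V
      rw [proj_stageMap D g₀ c hY f₀ hX j₀]
      show f (show X from x) ∈ (towerCone D g₀ c hY).π.app j₀ ⁻¹ᵁ V
      rw [hVU]; exact hfU ⟨x, rfl⟩)
  -- rebase at `o`
  let W : (stage D g₀ o).Opens := trans D g₀ a ⁻¹ᵁ V
  have : IsAffineHom (trans D g₀ a) := isAffineHom_tower_map D g₀ a
  have hWc : IsCompact (W : Set (stage D g₀ o)) :=
    QuasiCompact.isCompact_preimage (f := trans D g₀ a) _ V.2 hV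
  have hWU : proj D g₀ c hY o ⁻¹ᵁ W = U := by
    refine Eq.trans ?_ hVU
    refine Eq.trans ?_ (congrArg (· ⁻¹ᵁ V) ((towerCone D g₀ c hY).w a))
    rfl
  let fo := stageMap D g₀ f₀ o
  have hfo : Set.range fo ⊆ Set.range W.ι := by
    rw [Scheme.Opens.range_ι]
    rintro _ ⟨x, rfl⟩
    show (fo ≫ trans D g₀ a) x ∈ V
    rw [← trans_stageMap]
    exact ha (show x ∈ (tower D (f₀ ≫ g₀)).map a ⁻¹ᵁ ⊤ from trivial)
  let f₁ := IsOpenImmersion.lift W.ι fo hfo
  have hf₁ : f₁ ≫ W.ι = fo := IsOpenImmersion.lift_fac _ _ _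
  have : CompactSpace (D.obj o.left) := QuasiCompact.compactSpace_of_compactSpace (D.map o.hom)
  have : QuasiSeparatedSpace (D.obj o.left) := quasiSeparatedSpace_of_quasiSeparated (D.map o.hom)
  have hPB := isPullback_stage D g₀ o
  have hPB' := isPullback_stage D (f₀ ≫ g₀) o
  have : QuasiCompact (toStage D g₀ o) := MorphismProperty.of_isPullback hPB inferInstance
  have : QuasiSeparated (toStage D g₀ o) := MorphismProperty.of_isPullback hPB inferInstance
  have : LocallyOfFinitePresentation (toStage D g₀ o) :=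
    MorphismProperty.of_isPullback (P := @LocallyOfFinitePresentation) hPB inferInstance
  have : QuasiSeparatedSpace (stage D g₀ o) := quasiSeparatedSpace_stage D g₀ o
  have : CompactSpace W := isCompact_iff_compactSpace.mp hWc
  have : QuasiCompact W.ι := quasiCompact_of_compactSpace _
  have e : f₁ ≫ W.ι ≫ toStage D g₀ o = toStage D (f₀ ≫ g₀) o := by
    rw [reassoc_of% hf₁, stageMap_toStage]
  have : QuasiCompact (f₁ ≫ W.ι ≫ toStage D g₀ o) := by
    rw [e]; exact MorphismProperty.of_isPullback hPB' inferInstance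
  have : QuasiSeparated (f₁ ≫ W.ι ≫ toStage D g₀ o) := by
    rw [e]; exact MorphismProperty.of_isPullback hPB' inferInstance
  have : LocallyOfFinitePresentation (f₁ ≫ W.ι ≫ toStage D g₀ o) := by
    rw [e]; exact MorphismProperty.of_isPullback (P := @LocallyOfFinitePresentation) hPB' inferInstance
  have hYo := isPullback_proj D g₀ c hY o
  have hY₁ : IsPullback (proj D g₀ c hY o ∣_ W) ((proj D g₀ c hY o ⁻¹ᵁ W).ι ≫ g)
      (W.ι ≫ toStage D g₀ o) (c.π.app o.left) :=
    (isPullback_morphismRestrict _ W).paste_vert hYo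
  have hrange : Set.range f ⊆ Set.range (proj D g₀ c hY o ⁻¹ᵁ W).ι := by
    rw [Scheme.Opens.range_ι, hWU]; exact hfU
  let f' := IsOpenImmersion.lift (proj D g₀ c hY o ⁻¹ᵁ W).ι f hrange
  have hf' : f' ≫ (proj D g₀ c hY o ⁻¹ᵁ W).ι = f := IsOpenImmersion.lift_fac _ _ _
  have hX₁ : IsPullback (proj D (f₀ ≫ g₀) c hXS o) f' f₁ (proj D g₀ c hY o ∣_ W) := by
    refine IsPullback.of_bot ?_ ?_ (isPullback_morphismRestrict _ W)
    · rw [hf', hf₁]; exact isPullback_proj_stageMap D g₀ c hY f₀ hX o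
    · rw [← cancel_mono W.ι, Category.assoc, Category.assoc, morphismRestrict_ι, hf₁,
        reassoc_of% hf']
      exact proj_stageMap D g₀ c hY f₀ hX o
  have : IsClosedImmersion f' := by
    have : IsPreimmersion (f' ≫ (proj D g₀ c hY o ⁻¹ᵁ W).ι) := by rw [hf']; infer_instance
    have : IsPreimmersion f' := IsPreimmersion.of_comp f' (proj D g₀ c hY o ⁻¹ᵁ W).ι
    refine IsClosedImmersion.of_isPreimmersion f' ?_
    have h1 : Set.range f' = (proj D g₀ c hY o ⁻¹ᵁ W).ι ⁻¹' Set.range f := by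
      conv_rhs => rw [← hf']
      rw [Scheme.Hom.comp_base, TopCat.coe_comp, Set.range_comp,
        Set.preimage_image_eq _ (proj D g₀ c hY o ⁻¹ᵁ W).ι.isOpenEmbedding.injective]
    have h2 : closure (Set.range f) ∩ (U : Set Y) = Set.range f := by
      refine subset_antisymm ?_ fun y hy => ⟨subset_closure hy, hfU hy⟩
      rintro y ⟨hy, hyU⟩
      have h3 : y ∈ closure (Set.range f) ∩ coborder (Set.range f) := ⟨hy, hUo hyU⟩
      rwa [Set.inter_comm, coborder_inter_closure] at h3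
    rw [h1, ← h2, Set.preimage_inter]
    refine (isClosed_closure.preimage (proj D g₀ c hY o ⁻¹ᵁ W).ι.continuous).inter ?_
    rw [← hWU, ← Scheme.Opens.range_ι, Set.preimage_range]
    exact isClosed_univ
  have h := exists_descend_immersion D (i₀ := o.left) fo (toStage D g₀ o) W f₁ hf₁
    (exists_isClosedImmersion D c hc (i₀ := o.left) f₁ (W.ι ≫ toStage D g₀ o) hY₁ hX₁)
  obtain ⟨i, φ, Xi, Yi, fi, gi, pY, pX, h1, h2, h3⟩ := h
  refine ⟨i, φ ≫ o.hom, Xi, Yi, fi, gi, pY ≫ toBase D g₀ o, _, ?_,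
    h2.paste_horiz (isPullback_stageMap D g₀ f₀ o), h3⟩
  rw [D.map_comp]
  exact h1.paste_horiz (isPullback_stage D g₀ o)

end Groth.Agent.LimDesc
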