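import Groth.Agent.LimDesc.Tower
import Groth.Agent.S4584
import Groth.Agent.LimDesc.FPCancel
import Mathlib.AlgebraicGeometry.Morphisms.UniversallyInjective
import Mathlib.AlgebraicGeometry.PullbackCarrier

/-!
Descent of properties of morphisms along cofiltered limits with affine transition maps.
-/

universe u
open CategoryTheory CategoryTheory.Limits AlgebraicGeometry

namespace Groth.Agent.LimDesc

variable {I : Type u} [SmallCategory I] [IsCofiltered I] (D : I ⥤ Scheme.{u})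
  [∀ {i j} (f : i ⟶ j), IsAffineHom (D.map f)] {i₀ : I}
variable (c : Cone D) (hc : IsLimit c)

include hc in
/-- two morphisms into a finite type scheme which agree on the limit agree at some stage -/
theorem exists_toBase_comp_eq {T₀ : Scheme.{u}} [CompactSpace T₀] (gT : T₀ ⟶ D.obj i₀)
    {Z : Scheme.{u}} (h : Z ⟶ D.obj i₀) [LocallyOfFiniteType h]
    (a b : T₀ ⟶ Z) (ha : a ≫ h = gT) (hb : b ≫ h = gT)
    {T : Scheme.{u}} {qT : T ⟶ T₀} {g' : T ⟶ c.pt} (hT : IsPullback qT g' gT (c.π.app i₀))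
    (hab : qT ≫ a = qT ≫ b) :
    ∃ j : Over i₀, toBase D gT j ≫ a = toBase D gT j ≫ b := by
  have : ∀ j, CompactSpace ((tower D gT).obj j) := fun j => compactSpace_stage D gT j
  let o : Over i₀ := Over.mk (𝟙 i₀)
  obtain ⟨k, φ, hk⟩ := Scheme.exists_hom_comp_eq_comp_of_locallyOfFiniteType (tower D gT)
    (towerToBase D gT ≫ (Functor.const _).map gT) h _ (isLimitTowerCone D gT c hT hc) (i := o)
    (toBase D gT o ≫ a) (toBase D gT o ≫ b) (by simp [ha]) (by simp [hb])
    (by simp only [towerCone_π_app]; erw [proj_toBase_assoc, proj_toBase_assoc]; exact hab)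
  refine ⟨k, ?_⟩
  simp only [tower_map] at hk
  erw [trans_toBase_assoc, trans_toBase_assoc] at hk
  exact hk

variable {X₀ Y₀ : Scheme.{u}} (f₀ : X₀ ⟶ Y₀) (g₀ : Y₀ ⟶ D.obj i₀)
variable {X Y : Scheme.{u}} {f : X ⟶ Y} {g : Y ⟶ c.pt} {qY : Y ⟶ Y₀} {qX : X ⟶ X₀}
variable (hY : IsPullback qY g g₀ (c.π.app i₀)) (hX : IsPullback qX f f₀ qY)

include hc hY hX in
/-- monomorphisms descend -/
theorem exists_mono [CompactSpace (D.obj i₀)] [QuasiCompact g₀] [QuasiSeparated g₀]
    [LocallyOfFiniteType (f₀ ≫ g₀)] [QuasiCompact (f₀ ≫ g₀)] [Mono f] :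
    ∃ j : Over i₀, Mono (stageMap D g₀ f₀ j) := by
  have : QuasiCompact f₀ := QuasiCompact.of_comp f₀ g₀
  let gP := pullback.fst f₀ f₀ ≫ f₀ ≫ g₀
  have : CompactSpace ↥(pullback f₀ f₀) := QuasiCompact.compactSpace_of_compactSpace gP
  let T := pullback gP (c.π.app i₀)
  let t : T ⟶ pullback f₀ f₀ := pullback.fst _ _
  let sT : T ⟶ c.pt := pullback.snd _ _
  have hT : IsPullback t sT gP (c.π.app i₀) := .of_hasPullback _ _
  have hXS := isPullback_comp D g₀ c hY f₀ hX
  have ha : (t ≫ pullback.fst f₀ f₀) ≫ f₀ ≫ g₀ = sT ≫ c.π.app i₀ := by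
    simpa [gP] using hT.w
  have hb : (t ≫ pullback.snd f₀ f₀) ≫ f₀ ≫ g₀ = sT ≫ c.π.app i₀ := by
    rw [Category.assoc, ← pullback.condition_assoc]; simpa [gP] using hT.w
  have hab : hXS.lift _ _ ha = hXS.lift _ _ hb := by
    refine (cancel_mono f).1 (hY.hom_ext ?_ ?_)
    · rw [Category.assoc, Category.assoc, ← hX.w, IsPullback.lift_fst_assoc,
        IsPullback.lift_fst_assoc, Category.assoc, Category.assoc, pullback.condition]
    · rw [Category.assoc, Category.assoc, IsPullback.lift_snd, IsPullback.lift_snd]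
  obtain ⟨j, hj⟩ := exists_toBase_comp_eq D c hc gP (f₀ ≫ g₀) (pullback.fst f₀ f₀) (pullback.snd f₀ f₀)
    rfl (by simp [gP, pullback.condition_assoc]) hT
    (by simpa using congr($hab ≫ qX))
  refine ⟨j, ⟨fun {W} a b e => ?_⟩⟩
  have eB : (a ≫ toBase D (f₀ ≫ g₀) j) ≫ f₀ = (b ≫ toBase D (f₀ ≫ g₀) j) ≫ f₀ := by
    simpa using congr($e ≫ toBase D g₀ j)
  have eS : a ≫ toStage D (f₀ ≫ g₀) j = b ≫ toStage D (f₀ ≫ g₀) j := by
    simpa using congr($e ≫ toStage D g₀ j)
  let u : W ⟶ pullback f₀ f₀ := pullback.lift _ _ eB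
  have hu : u ≫ gP = (a ≫ toStage D (f₀ ≫ g₀) j) ≫ D.map j.hom := by
    simp only [u, gP, pullback.map, pullback.lift_fst_assoc, Category.assoc]
    rw [(isPullback_stage D (f₀ ≫ g₀) j).w]
  let w : W ⟶ stage D gP j := pullback.lift u (a ≫ toStage D (f₀ ≫ g₀) j) hu
  refine pullback.hom_ext ?_ eS
  have h2 := congr(w ≫ $hj)
  simpa [w, u, pullback.lift_fst, pullback.lift_snd, pullback.lift_fst_assoc, pullback.lift_snd_assoc] using h2

include hc hY in
/-- surjectivity descends -/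
theorem exists_surjective_of_range_subset [CompactSpace (D.obj i₀)] [QuasiSeparatedSpace (D.obj i₀)]
    [QuasiCompact g₀] [QuasiSeparated g₀] [LocallyOfFinitePresentation f₀] [QuasiCompact f₀]
    (hr : ∀ y : Y, qY y ∈ Set.range f₀) :
    ∃ j : Over i₀, Surjective (stageMap D g₀ f₀ j) := by
  have : CompactSpace Y₀ := QuasiCompact.compactSpace_of_compactSpace g₀
  have : QuasiSeparatedSpace Y₀ := quasiSeparatedSpace_of_quasiSeparated g₀
  have hC : Topology.IsConstructible (Set.range f₀)ᶜ := by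
    rw [← Set.image_univ]
    exact (f₀.isConstructible_image .univ).compl
  obtain ⟨W, w, hWa, -, -, -, hw⟩ := S4584.result Y₀ _ hC
  have : ∀ j, CompactSpace ((tower D (w ≫ g₀)).obj j) := fun j => compactSpace_stage D (w ≫ g₀) j
  obtain ⟨j, hj⟩ : ∃ j, IsEmpty (stage D (w ≫ g₀) j) := by
    by_contra h
    push Not at h
    have : ∀ j, Nonempty ((tower D (w ≫ g₀)).obj j) := h
    have hT : IsPullback (pullback.fst (w ≫ g₀) (c.π.app i₀)) (pullback.snd _ _) (w ≫ g₀) (c.π.app i₀) :=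
      .of_hasPullback _ _
    obtain ⟨t⟩ := Scheme.nonempty_of_isLimit _ _ (isLimitTowerCone D (w ≫ g₀) c hT hc)
    let l := hY.lift (pullback.fst (w ≫ g₀) (c.π.app i₀) ≫ w) (pullback.snd _ _) (by simpa using hT.w)
    let t' : ↥(pullback (w ≫ g₀) (c.π.app i₀)) := t
    have h2 : qY (l t') = w (pullback.fst (w ≫ g₀) (c.π.app i₀) t') := by
      rw [← Scheme.Hom.comp_apply, hY.lift_fst, Scheme.Hom.comp_apply]
    have h3 := hr (l t')
    rw [h2] at h3
    exact (hw.le ⟨_, rfl⟩) h3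
  refine ⟨j, ⟨fun y => ?_⟩⟩
  by_cases hy : toBase D g₀ j y ∈ Set.range f₀
  · obtain ⟨x, hx⟩ := hy
    obtain ⟨z, -, hz⟩ := Scheme.exists_preimage_of_isPullback (isPullback_stageMap D g₀ f₀ j) x y hx
    exact ⟨z, hz⟩
  · obtain ⟨v, hv⟩ := hw.ge hy
    obtain ⟨z, -, -⟩ := Scheme.exists_preimage_of_isPullback (isPullback_stageMap D g₀ w j) v y hv
    exact hj.elim z

include hc hY hX in
theorem exists_surjective [CompactSpace (D.obj i₀)] [QuasiSeparatedSpace (D.obj i₀)]
    [QuasiCompact g₀] [QuasiSeparated g₀] [LocallyOfFinitePresentation g₀]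
    [LocallyOfFinitePresentation (f₀ ≫ g₀)] [QuasiCompact (f₀ ≫ g₀)] [Surjective f] :
    ∃ j : Over i₀, Surjective (stageMap D g₀ f₀ j) := by
  have : QuasiCompact f₀ := QuasiCompact.of_comp f₀ g₀
  have : LocallyOfFinitePresentation f₀ := lfp_of_comp f₀ g₀
  refine exists_surjective_of_range_subset D c hc f₀ g₀ hY fun y => ?_
  obtain ⟨x, rfl⟩ := f.surjective y
  exact ⟨qX x, by rw [← Scheme.Hom.comp_apply, hX.w, Scheme.Hom.comp_apply]⟩

include hc hY hX in
/-- radiciel descends -/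
theorem exists_universallyInjective [CompactSpace (D.obj i₀)] [QuasiSeparatedSpace (D.obj i₀)]
    [QuasiCompact g₀] [QuasiSeparated g₀] [LocallyOfFinitePresentation g₀]
    [LocallyOfFinitePresentation (f₀ ≫ g₀)] [QuasiCompact (f₀ ≫ g₀)] [QuasiSeparated (f₀ ≫ g₀)]
    [UniversallyInjective f] :
    ∃ j : Over i₀, UniversallyInjective (stageMap D g₀ f₀ j) := by
  have : QuasiCompact f₀ := QuasiCompact.of_comp f₀ g₀
  have : QuasiSeparated f₀ := QuasiSeparated.of_comp f₀ g₀
  have : LocallyOfFinitePresentation f₀ := lfp_of_comp f₀ g₀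
  let gP := pullback.fst f₀ f₀ ≫ f₀ ≫ g₀
  let δ := pullback.diagonal f₀
  have hδ : δ ≫ gP = f₀ ≫ g₀ := by simp [δ, gP, pullback.lift_fst, pullback.lift_snd, pullback.lift_fst_assoc, pullback.lift_snd_assoc]
  have : LocallyOfFinitePresentation (δ ≫ gP) := hδ.symm ▸ ‹_›
  have : QuasiCompact (δ ≫ gP) := hδ.symm ▸ ‹_›
  have : LocallyOfFinitePresentation δ := lfp_of_comp δ gP
  have : QuasiCompact δ := QuasiCompact.of_comp δ gP
  let T := pullback gP (c.π.app i₀)
  let t : T ⟶ pullback f₀ f₀ := pullback.fst _ _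
  let sT : T ⟶ c.pt := pullback.snd _ _
  have hT : IsPullback t sT gP (c.π.app i₀) := .of_hasPullback _ _
  have hXS := isPullback_comp D g₀ c hY f₀ hX
  have ha : (t ≫ pullback.fst f₀ f₀) ≫ f₀ ≫ g₀ = sT ≫ c.π.app i₀ := by
    simpa [gP] using hT.w
  have hb : (t ≫ pullback.snd f₀ f₀) ≫ f₀ ≫ g₀ = sT ≫ c.π.app i₀ := by
    rw [Category.assoc, ← pullback.condition_assoc]; simpa [gP] using hT.w
  have hl : hXS.lift _ _ ha ≫ f = hXS.lift _ _ hb ≫ f := by
    refine hY.hom_ext ?_ ?_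
    · rw [Category.assoc, Category.assoc, ← hX.w, IsPullback.lift_fst_assoc,
        IsPullback.lift_fst_assoc, Category.assoc, Category.assoc, pullback.condition]
    · rw [Category.assoc, Category.assoc, IsPullback.lift_snd, IsPullback.lift_snd]
  let M : pullback f f ⟶ pullback f₀ f₀ := pullback.map f f f₀ f₀ qX qX qY hX.w.symm hX.w.symm
  have hM : pullback.lift _ _ hl ≫ M = t := by
    apply pullback.hom_ext <;> simp [M, pullback.map, pullback.lift_fst, pullback.lift_snd, pullback.lift_fst_assoc, pullback.lift_snd_assoc]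
  have hM' : pullback.diagonal f ≫ M = qX ≫ δ := by
    apply pullback.hom_ext <;> simp [M, δ, pullback.map, pullback.lift_fst, pullback.lift_snd, pullback.lift_fst_assoc, pullback.lift_snd_assoc]
  obtain ⟨j, hj⟩ := exists_surjective_of_range_subset D c hc δ gP hT fun y => by
    obtain ⟨x, hx⟩ := ((UniversallyInjective.iff_diagonal f).1 inferInstance).surj
      (pullback.lift _ _ hl y)
    refine ⟨qX x, ?_⟩
    rw [← Scheme.Hom.comp_apply, ← hM', Scheme.Hom.comp_apply, hx, ← Scheme.Hom.comp_apply, hM]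
  refine ⟨j, (UniversallyInjective.iff_diagonal _).2 ⟨?_⟩⟩
  set fj := stageMap D g₀ f₀ j
  intro p
  let e : stage D (f₀ ≫ g₀) j ⟶ stage D (δ ≫ gP) j :=
    pullback.lift (toBase D (f₀ ≫ g₀) j) (toStage D (f₀ ≫ g₀) j) (by rw [hδ]; exact pullback.condition)
  let e' : stage D (δ ≫ gP) j ⟶ stage D (f₀ ≫ g₀) j :=
    pullback.lift (toBase D (δ ≫ gP) j) (toStage D (δ ≫ gP) j) (by rw [← hδ]; exact pullback.condition)
  have hee : e' ≫ e = 𝟙 _ := by apply pullback.hom_ext <;> simp [e, e']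
  have h1 : pullback.fst fj fj ≫ toStage D (f₀ ≫ g₀) j = pullback.snd fj fj ≫ toStage D (f₀ ≫ g₀) j := by
    simpa [fj] using congr($(pullback.condition (f := fj) (g := fj)) ≫ toStage D g₀ j)
  let u : pullback fj fj ⟶ pullback f₀ f₀ :=
    pullback.map fj fj f₀ f₀ (toBase D (f₀ ≫ g₀) j) (toBase D (f₀ ≫ g₀) j) (toBase D g₀ j)
      (by simp [fj]) (by simp [fj])
  have hu : u ≫ gP = (pullback.fst fj fj ≫ toStage D (f₀ ≫ g₀) j) ≫ D.map j.hom := by
    simp only [u, gP, pullback.map, pullback.lift_fst_assoc, Category.assoc]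
    rw [(isPullback_stage D (f₀ ≫ g₀) j).w]
  let Ψ : pullback fj fj ⟶ stage D gP j :=
    pullback.lift u (pullback.fst fj fj ≫ toStage D (f₀ ≫ g₀) j) hu
  have hΨ : pullback.diagonal fj ≫ Ψ = e ≫ stageMap D gP δ j := by
    apply pullback.hom_ext
    · rw [Category.assoc, Category.assoc, stageMap_toBase]
      simp only [Ψ, pullback.lift_fst, e, pullback.lift_fst_assoc]
      apply pullback.hom_ext <;> simp [u, δ, pullback.map, pullback.lift_fst, pullback.lift_snd, pullback.lift_fst_assoc, pullback.lift_snd_assoc]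
    · rw [Category.assoc, Category.assoc, stageMap_toStage]
      simp [Ψ, e]
  have : Mono Ψ := by
    constructor
    intro W a b hab
    have h2 : a ≫ u = b ≫ u := by simpa [Ψ] using congr($hab ≫ toBase D gP j)
    have h3 : (a ≫ pullback.fst fj fj) ≫ toStage D (f₀ ≫ g₀) j = (b ≫ pullback.fst fj fj) ≫ toStage D (f₀ ≫ g₀) j := by
      simpa [Ψ] using congr($hab ≫ toStage D gP j)
    refine pullback.hom_ext (pullback.hom_ext ?_ h3) (pullback.hom_ext ?_ ?_)
    · simpa [u, pullback.map, pullback.lift_fst, pullback.lift_snd, pullback.lift_fst_assoc, pullback.lift_snd_assoc] using congr($h2 ≫ pullback.fst f₀ f₀)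
    · simpa [u, pullback.map, pullback.lift_fst, pullback.lift_snd, pullback.lift_fst_assoc, pullback.lift_snd_assoc] using congr($h2 ≫ pullback.snd f₀ f₀)
    · simpa [h1] using h3
  obtain ⟨x', hx'⟩ := hj.surj (Ψ p)
  obtain ⟨x, rfl⟩ : ∃ x, e x = x' := ⟨e' x', by rw [← Scheme.Hom.comp_apply, hee]; rfl⟩
  refine ⟨x, Ψ.injective ?_⟩
  rw [← Scheme.Hom.comp_apply, hΨ, Scheme.Hom.comp_apply, hx']

end Groth.Agent.LimDesc
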