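import Groth.Agent.LimDesc.Descend
import Mathlib.AlgebraicGeometry.Morphisms.QuasiFinite
import Mathlib.AlgebraicGeometry.ZariskisMainTheorem
import Mathlib.AlgebraicGeometry.Morphisms.UniversallyOpen

/-!
Quasi-finiteness at a point under base change, and its descent along limits.
-/

universe u
open CategoryTheory CategoryTheory.Limits AlgebraicGeometry

namespace Groth.Agent.LimDesc

theorem quasiFiniteAt_fiberι_iff {X Y : Scheme.{u}} (f : X ⟶ Y) [LocallyOfFiniteType f] {y : Y}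
    (z : f.fiber y) : f.QuasiFiniteAt (f.fiberι y z) ↔ IsOpen {z} := by
  obtain ⟨x, hx⟩ : ∃ x, x = f.fiberι y z := ⟨_, rfl⟩
  have hy : f x = y := by
    have h : x ∈ Set.range (f.fiberι y) := ⟨z, hx.symm⟩
    rw [Scheme.Hom.range_fiberι] at h
    exact h
  subst hy
  rw [← hx, Scheme.Hom.quasiFiniteAt_iff_isOpen_singleton_asFiber]
  have hz : f.asFiber x = z :=
    (f.fiberι _).isEmbedding.injective ((f.fiberι_asFiber x).trans hx)
  rw [hz]

theorem locallyQuasiFinite_of_forall_quasiFiniteAt {X Y : Scheme.{u}} (f : X ⟶ Y)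
    [LocallyOfFiniteType f] (h : ∀ x, f.QuasiFiniteAt x) : LocallyQuasiFinite f := by
  rw [locallyQuasiFinite_iff_isDiscrete_preimage_singleton]
  intro y
  rw [isDiscrete_iff_discreteTopology, discreteTopology_iff_isOpen_singleton]
  intro w
  obtain ⟨z, rfl⟩ := (f.fiberHomeo y).surjective w
  rw [← Set.image_singleton, (f.fiberHomeo y).isOpen_image, ← quasiFiniteAt_fiberι_iff]
  exact h _

variable {X Y X' Y' : Scheme.{u}} {p : X' ⟶ X} {f' : X' ⟶ Y'} {f : X ⟶ Y} {q : Y' ⟶ Y}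

/-- quasi-finiteness at a point is stable under base change -/
theorem quasiFiniteAt_of_isPullback (h : IsPullback p f' f q) [LocallyOfFiniteType f] {x' : X'}
    (hx : f.QuasiFiniteAt (p x')) : f'.QuasiFiniteAt x' := by
  let U : X.Opens := ⟨{x | f.QuasiFiniteAt x}, f.isOpen_quasiFiniteAt⟩
  have : LocallyQuasiFinite (U.ι ≫ f) := locallyQuasiFinite_of_forall_quasiFiniteAt _ fun z =>
    (Scheme.Hom.quasiFiniteAt_comp_iff_of_isOpenImmersion (f := U.ι) (g := f) (x := z)).2 z.2
  have h2 := (isPullback_morphismRestrict p U).paste_vert h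
  let V : X'.Opens := p ⁻¹ᵁ U
  have hlq : LocallyQuasiFinite (V.ι ≫ f') :=
    MorphismProperty.of_isPullback (P := @LocallyQuasiFinite) h2 this
  have hxV : x' ∈ V := hx
  have h3 : (V.ι ≫ f').QuasiFiniteAt (⟨x', hxV⟩ : V) := @Scheme.Hom.quasiFiniteAt _ _ _ hlq _
  have h4 : f'.QuasiFiniteAt (V.ι (⟨x', hxV⟩ : V)) :=
    (Scheme.Hom.quasiFiniteAt_comp_iff_of_isOpenImmersion (f := V.ι) (g := f') (x := (⟨x', hxV⟩ : V))).1 h3
  rw [show V.ι (⟨x', hxV⟩ : V) = x' from Scheme.Opens.ι_apply V _] at h4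
  exact h4

/-- quasi-finiteness at a point descends along any base change -/
theorem quasiFiniteAt_of_baseChange (h : IsPullback p f' f q) [LocallyOfFiniteType f] {x' : X'}
    (hx : f'.QuasiFiniteAt x') : f.QuasiFiniteAt (p x') := by
  have : LocallyOfFiniteType f' := MorphismProperty.of_isPullback (P := @LocallyOfFiniteType) h inferInstance
  have hP := isPullback_fiberToSpecResidueField_of_isPullback h (f' x')
  let P : f'.fiber (f' x') ⟶ f.fiber (q (f' x')) :=
    pullback.map f' (Y'.fromSpecResidueField (f' x')) f (Y.fromSpecResidueField (q (f' x')))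
      p (Spec.map (q.residueFieldMap (f' x'))) q h.w.symm (by simp)
  have : UniversallyOpen P :=
    MorphismProperty.of_isPullback (P := @UniversallyOpen) hP.flip inferInstance
  have hopen : IsOpen {P (f'.asFiber x')} := by
    have h1 := P.isOpenMap _ (Scheme.Hom.quasiFiniteAt_iff_isOpen_singleton_asFiber.1 hx)
    rwa [Set.image_singleton] at h1
  have he : f.fiberι _ (P (f'.asFiber x')) = p x' := by
    have h2 : P ≫ f.fiberι (q (f' x')) = f'.fiberι (f' x') ≫ p := pullback.lift_fst _ _ _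
    have h3 := congrArg (fun m : f'.fiber (f' x') ⟶ X => m (f'.asFiber x')) h2
    simpa [Scheme.Hom.comp_apply] using h3
  exact he ▸ (quasiFiniteAt_fiberι_iff f _).2 hopen

section descend

variable {I : Type u} [SmallCategory I] [IsCofiltered I] (D : I ⥤ Scheme.{u})
  [∀ {i j} (f : i ⟶ j), IsAffineHom (D.map f)] {i₀ : I}
variable (c : Cone D) (hc : IsLimit c)
variable {X₀ Y₀ : Scheme.{u}} (f₀ : X₀ ⟶ Y₀) (g₀ : Y₀ ⟶ D.obj i₀)
variable {A B : Scheme.{u}} {f₁ : A ⟶ B} {g : B ⟶ c.pt} {qY : B ⟶ Y₀} {qX : A ⟶ X₀}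
variable (hY : IsPullback qY g g₀ (c.π.app i₀)) (hX : IsPullback qX f₁ f₀ qY)

include hc hY hX in
theorem exists_locallyQuasiFinite [CompactSpace (D.obj i₀)] [LocallyOfFiniteType f₀]
    [QuasiCompact (f₀ ≫ g₀)] [LocallyQuasiFinite f₁] :
    ∃ j : Over i₀, LocallyQuasiFinite (stageMap D g₀ f₀ j) := by
  have : CompactSpace X₀ := QuasiCompact.compactSpace_of_compactSpace (f₀ ≫ g₀)
  have hloft : ∀ j, LocallyOfFiniteType (stageMap D g₀ f₀ j) := fun j =>
    MorphismProperty.of_isPullback (P := @LocallyOfFiniteType) (isPullback_stageMap D g₀ f₀ j) inferInstance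
  have hXS := isPullback_comp D g₀ c hY f₀ hX
  have : ∀ {i j : Over i₀} (a : i ⟶ j), IsAffineHom ((tower D (f₀ ≫ g₀)).map a) :=
    fun a => isAffineHom_tower_map D (f₀ ≫ g₀) a
  have hcpt : ∀ j, CompactSpace ((tower D (f₀ ≫ g₀)).obj j) := fun j => compactSpace_stage D _ j
  by_contra hcon
  push Not at hcon
  let Z (j : Over i₀) : Set ((tower D (f₀ ≫ g₀)).obj j) := {x | (stageMap D g₀ f₀ j).QuasiFiniteAt x}ᶜ
  have hZc : ∀ j, IsClosed (Z j) := fun j => (stageMap D g₀ f₀ j).isOpen_quasiFiniteAt.isClosed_compl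
  have hZne : ∀ j, (Z j).Nonempty := fun j => by
    by_contra h
    refine hcon j (locallyQuasiFinite_of_forall_quasiFiniteAt _ fun x => ?_)
    by_contra hx
    exact h ⟨x, hx⟩
  obtain ⟨s, hs⟩ := exists_mem_of_isClosed_of_nonempty (tower D (f₀ ≫ g₀)) _
    (isLimitTowerCone D (f₀ ≫ g₀) c hXS hc) Z hZc hZne (fun j => (hZc j).isCompact)
    (fun {a b} e x hx hx' => hx (quasiFiniteAt_of_isPullback (isPullback_trans_stageMap D g₀ f₀ e) hx'))
  let s' : A := s
  let o : Over i₀ := Over.mk (𝟙 i₀)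
  refine hs o ?_
  exact quasiFiniteAt_of_baseChange (isPullback_proj_stageMap D g₀ c hY f₀ hX o)
    (f₁.quasiFiniteAt s')

end descend

end Groth.Agent.LimDesc
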