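import Groth.Agent.LimDesc.Tower
import Groth.Prelude.Def_Mor2
import Mathlib.AlgebraicGeometry.Morphisms.QuasiSeparated

/-!
Descent of quasi-affine morphisms along cofiltered limits with affine transition maps.
-/

universe u
open CategoryTheory CategoryTheory.Limits AlgebraicGeometry

namespace Groth.Agent.LimDesc

/-- A qcqs scheme covered by quasi-affine basic opens of global sections is quasi-affine. -/
theorem isQuasiAffine_of_basicOpen {X : Scheme.{u}} [CompactSpace X] [QuasiSeparatedSpace X]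
    (h : ∀ x : X, ∃ s : Γ(X, ⊤), x ∈ X.basicOpen s ∧ Scheme.IsQuasiAffine (X.basicOpen s)) :
    Scheme.IsQuasiAffine X := by
  refine .of_forall_exists_mem_basicOpen _ fun x => ?_
  obtain ⟨s, hxs, hs⟩ := h x
  set W := X.basicOpen s
  obtain ⟨_, ⟨_, ⟨r, hr, rfl⟩, rfl⟩, hxr, -⟩ :=
    (Scheme.IsQuasiAffine.isBasis_basicOpen W.toScheme).exists_subset_of_mem_open
      (Set.mem_univ (⟨x, hxs⟩ : W)) isOpen_univ
  have := isLocalization_basicOpen_of_qcqs isCompact_univ isQuasiSeparated_univ s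
  obtain ⟨⟨a, m⟩, ham⟩ := IsLocalization.surj (Submonoid.powers s) (W.topIso.hom r)
  have hm : IsUnit (algebraMap Γ(X, ⊤) Γ(X, W) m) := IsLocalization.map_units _ m
  have hWr : W.ι ''ᵁ (W.toScheme.basicOpen r) = X.basicOpen (W.topIso.hom r) :=
    (congrArg (fun t => W.ι ''ᵁ (W.toScheme.basicOpen t))
      (show W.topIso.inv (W.topIso.hom r) = r by rw [← CommRingCat.comp_apply, Iso.hom_inv_id]; rfl)).symm.trans
      (Scheme.Opens.ι_image_basicOpen_topIso_inv W (W.topIso.hom r))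
  have hb : X.basicOpen (a * s) = X.basicOpen (W.topIso.hom r) := by
    have h1 : X.basicOpen (W.topIso.hom r * algebraMap Γ(X, ⊤) Γ(X, W) m) =
        X.basicOpen (algebraMap Γ(X, ⊤) Γ(X, W) a) := by rw [ham]
    rw [Scheme.basicOpen_mul, X.basicOpen_of_isUnit hm] at h1
    rw [Scheme.basicOpen_mul, show X.basicOpen a ⊓ X.basicOpen s = W ⊓ X.basicOpen a from inf_comm _ _,
      ← Scheme.basicOpen_res X a (homOfLE le_top : W ⟶ ⊤).op]
    rw [inf_eq_left.2 (X.basicOpen_le _)] at h1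
    exact h1.symm
  refine ⟨a * s, ?_, ?_⟩
  · rw [hb, ← hWr]
    exact hr.image_of_isOpenImmersion W.ι
  · rw [hb, ← hWr]
    exact ⟨⟨x, hxs⟩, hxr, rfl⟩

/-- quasi-affineness of a morphism is local on the target -/
theorem mor2_isQuasiAffine_of_cover {X Y : Scheme.{u}} (f : X ⟶ Y) [QuasiCompact f] [QuasiSeparated f]
    {ι : Type*} (U : ι → Y.Opens) (hU : ∀ y, ∃ k, y ∈ U k)
    (hqa : ∀ k, Scheme.IsQuasiAffine (f ⁻¹ᵁ U k : Scheme.{u})) : Mor2.IsQuasiAffine f := by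
  refine ⟨inferInstance, fun V hV => ?_⟩
  have : IsAffine V.toScheme := hV
  have : CompactSpace ↥(f ⁻¹ᵁ V : Scheme.{u}) :=
    QuasiCompact.compactSpace_of_compactSpace (f ∣_ V)
  have : QuasiSeparatedSpace ↥(f ⁻¹ᵁ V : Scheme.{u}) :=
    quasiSeparatedSpace_of_quasiSeparated (f ∣_ V)
  refine isQuasiAffine_of_basicOpen fun x => ?_
  obtain ⟨k, hk⟩ := hU (f ((f ⁻¹ᵁ V).ι x))
  obtain ⟨s, hsU, hxs⟩ := (isAffineOpen_top V.toScheme).exists_basicOpen_le
    (V := V.ι ⁻¹ᵁ U k) ⟨(f ∣_ V) x, by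
      show V.ι ((f ∣_ V) x) ∈ U k
      rw [← Scheme.Hom.comp_apply, morphismRestrict_ι]; exact hk⟩ trivial
  refine ⟨(f ∣_ V).appTop s, ?_, ?_⟩
  · rw [← Scheme.preimage_basicOpen_top]; exact hxs
  rw [← Scheme.preimage_basicOpen_top]
  set W := (f ∣_ V) ⁻¹ᵁ V.toScheme.basicOpen s
  have : CompactSpace W := isCompact_iff_compactSpace.mp
    (QuasiCompact.isCompact_preimage (f := f ∣_ V) _ (V.toScheme.basicOpen s).2
      ((isAffineOpen_top V.toScheme).basicOpen s).isCompact)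
  have hle : Set.range (W.ι ≫ (f ⁻¹ᵁ V).ι) ⊆ Set.range (f ⁻¹ᵁ U k).ι := by
    rw [Scheme.Opens.range_ι]
    rintro _ ⟨w, rfl⟩
    have hw : (f ∣_ V) (W.ι w) ∈ V.toScheme.basicOpen s := w.2
    have h2 : V.ι ((f ∣_ V) (W.ι w)) ∈ U k := hsU hw
    rw [← Scheme.Hom.comp_apply, morphismRestrict_ι] at h2
    exact h2
  have := hqa k
  exact .of_isImmersion (IsOpenImmersion.lift (f ⁻¹ᵁ U k).ι (W.ι ≫ (f ⁻¹ᵁ V).ι) hle)

variable {I : Type u} [SmallCategory I] [IsCofiltered I] (D : I ⥤ Scheme.{u})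
  [∀ {i j} (f : i ⟶ j), IsAffineHom (D.map f)] {i₀ : I}
variable (c : Cone D) (hc : IsLimit c)

include hc in
theorem exists_isQuasiAffine_preimage_toBase {T₀ : Scheme.{u}} [CompactSpace T₀]
    [QuasiSeparatedSpace T₀] (gT : T₀ ⟶ D.obj i₀) {T : Scheme.{u}} {qT : T ⟶ T₀} {g' : T ⟶ c.pt}
    (hT : IsPullback qT g' gT (c.π.app i₀)) (U : T₀.Opens) (hU : IsCompact (U : Set T₀))
    (hUa : Scheme.IsQuasiAffine (qT ⁻¹ᵁ U : Scheme.{u})) :
    ∃ j : Over i₀, Scheme.IsQuasiAffine (toBase D gT j ⁻¹ᵁ U : Scheme.{u}) := by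
  have haff : ∀ {i j : Over i₀} (a : i ⟶ j), IsAffineHom ((tower D gT).map a) :=
    fun a => isAffineHom_tower_map D gT a
  let o : Over i₀ := Over.mk (𝟙 i₀)
  let W : ((tower D gT).obj o).Opens := toBase D gT o ⁻¹ᵁ U
  have hW : IsCompact (W : Set ((tower D gT).obj o)) :=
    QuasiCompact.isCompact_preimage (f := toBase D gT o) _ U.2 hU
  have (k : Over o) : CompactSpace ((opensDiagram (tower D gT) o W).obj k) :=
    isCompact_iff_compactSpace.mp
      (QuasiCompact.isCompact_preimage (f := (tower D gT).map k.hom) _ W.2 hW)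
  have (k : Over o) : QuasiSeparatedSpace ((opensDiagram (tower D gT) o W).obj k) :=
    have : QuasiSeparatedSpace ((tower D gT).obj k.left) := quasiSeparatedSpace_stage D gT k.left
    (isQuasiSeparated_iff_quasiSeparatedSpace _ ((tower D gT).map k.hom ⁻¹ᵁ W).2).mp
      (.of_quasiSeparatedSpace _)
  have : Scheme.IsQuasiAffine (opensCone (tower D gT) (towerCone D gT c hT) o W).pt := by
    have e : (towerCone D gT c hT).π.app o ⁻¹ᵁ W = qT ⁻¹ᵁ U := by
      show (proj D gT c hT o ≫ toBase D gT o) ⁻¹ᵁ U = qT ⁻¹ᵁ U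
      rw [proj_toBase]
    show Scheme.IsQuasiAffine ((towerCone D gT c hT).π.app o ⁻¹ᵁ W : Scheme.{u})
    rw [e]; exact hUa
  obtain ⟨k, hk⟩ := Scheme.exists_isQuasiAffine_of_isLimit (opensDiagram (tower D gT) o W) _
    (isLimitOpensCone (tower D gT) (towerCone D gT c hT) (isLimitTowerCone D gT c hT hc) o W)
  refine ⟨k.left, ?_⟩
  have h2 : Scheme.IsQuasiAffine ((tower D gT).map k.hom ⁻¹ᵁ W : Scheme.{u}) := hk
  rw [tower_map] at h2
  rw [← trans_toBase D gT k.hom]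
  exact h2

variable {X₀ Y₀ : Scheme.{u}} (f₀ : X₀ ⟶ Y₀) (g₀ : Y₀ ⟶ D.obj i₀)
variable {X Y : Scheme.{u}} {f : X ⟶ Y} {g : Y ⟶ c.pt} {qY : Y ⟶ Y₀} {qX : X ⟶ X₀}
variable (hY : IsPullback qY g g₀ (c.π.app i₀)) (hX : IsPullback qX f f₀ qY)

include hc hY hX in
theorem exists_isQuasiAffine [CompactSpace (D.obj i₀)] [QuasiSeparatedSpace (D.obj i₀)]
    [QuasiCompact g₀] [QuasiSeparated g₀] [QuasiCompact (f₀ ≫ g₀)] [QuasiSeparated (f₀ ≫ g₀)]
    (hf : Mor2.IsQuasiAffine f) : ∃ j : Over i₀, Mor2.IsQuasiAffine (stageMap D g₀ f₀ j) := by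
  classical
  have : CompactSpace Y₀ := QuasiCompact.compactSpace_of_compactSpace g₀
  have : CompactSpace X₀ := QuasiCompact.compactSpace_of_compactSpace (f₀ ≫ g₀)
  have : QuasiSeparatedSpace X₀ := quasiSeparatedSpace_of_quasiSeparated (f₀ ≫ g₀)
  have : QuasiCompact f₀ := QuasiCompact.of_comp f₀ g₀
  have : QuasiSeparated f₀ := QuasiSeparated.of_comp f₀ g₀
  have := isAffineHom_π_app D c hc i₀
  have : IsAffineHom qY := MorphismProperty.of_isPullback hY.flip inferInstance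
  let 𝒰 := Y₀.affineCover.finiteSubcover
  let V (k : 𝒰.I₀) : Y₀.Opens := (𝒰.f k).opensRange
  have hV (k) : IsAffineOpen (V k) := by
    have : IsAffine (𝒰.X k) := by dsimp [𝒰]; infer_instance
    exact isAffineOpen_opensRange _
  choose j hj using fun k => exists_isQuasiAffine_preimage_toBase D c hc (f₀ ≫ g₀)
    (isPullback_comp D g₀ c hY f₀ hX) (f₀ ⁻¹ᵁ V k)
    (QuasiCompact.isCompact_preimage (f := f₀) _ (V k).2 (hV k).isCompact)
    (by rw [← Scheme.Hom.comp_preimage, hX.w, Scheme.Hom.comp_preimage]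
        exact hf.2 _ ((hV k).preimage qY))
  cases nonempty_fintype 𝒰.I₀
  obtain ⟨l, hl⟩ := IsCofiltered.inf_objs_exists (Finset.univ.image j)
  refine ⟨l, ?_⟩
  have : QuasiCompact (stageMap D g₀ f₀ l) :=
    MorphismProperty.of_isPullback (isPullback_stageMap D g₀ f₀ l) inferInstance
  have : QuasiSeparated (stageMap D g₀ f₀ l) :=
    MorphismProperty.of_isPullback (isPullback_stageMap D g₀ f₀ l) inferInstance
  refine mor2_isQuasiAffine_of_cover _ (fun k => toBase D g₀ l ⁻¹ᵁ V k) (fun y => ?_) fun k => ?_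
  · obtain ⟨k, z, hz⟩ := 𝒰.exists_eq (toBase D g₀ l y)
    exact ⟨k, z, hz⟩
  rw [← Scheme.Hom.comp_preimage, stageMap_toBase, Scheme.Hom.comp_preimage]
  have a : l ⟶ j k := (hl (Finset.mem_image_of_mem j (Finset.mem_univ k))).some
  rw [← trans_toBase D (f₀ ≫ g₀) a, Scheme.Hom.comp_preimage]
  have : IsAffineHom (trans D (f₀ ≫ g₀) a) := isAffineHom_tower_map D (f₀ ≫ g₀) a
  have := hj k
  have : IsAffineHom (trans D (f₀ ≫ g₀) a ∣_ (toBase D (f₀ ≫ g₀) (j k) ⁻¹ᵁ f₀ ⁻¹ᵁ V k)) :=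
    MorphismProperty.of_isPullback (P := @IsAffineHom) (isPullback_morphismRestrict _ _).flip inferInstance
  exact .of_isAffineHom (trans D (f₀ ≫ g₀) a ∣_ (toBase D (f₀ ≫ g₀) (j k) ⁻¹ᵁ f₀ ⁻¹ᵁ V k))

end Groth.Agent.LimDesc
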